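import Groth.Agent.OmegaCI.OpenImm
import Mathlib.RingTheory.IsTensorProduct
import Mathlib.RingTheory.Localization.BaseChange
import Mathlib.RingTheory.TensorProduct.Basic

/-!
Algebras which agree with the base on a basic open.
-/

set_option autoImplicit false

universe u v

open TensorProduct

namespace Groth.Agent.OmegaCI

/-- `C` agrees with `C'` where `g` is invertible. -/
structure AwayIso {C' C : Type u} [CommRing C'] [CommRing C] [Algebra C' C] (g : C') : Prop where
  den : ∀ b : C, ∃ (k : ℕ) (a : C'), algebraMap C' C g ^ k * b = algebraMap C' C a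
  retr : Nonempty (C →ₐ[C'] Localization.Away g)

variable {C' C : Type u} [CommRing C'] [CommRing C] [Algebra C' C] {g : C'}

/-- An element of a module that dies in the tensor product is killed by a power of `g`. -/
theorem AwayIso.exists_pow_smul_eq_zero (h : AwayIso (C := C) g) {M : Type v} [AddCommGroup M] [Module C' M]
    (x : M) (hx : (1 : C) ⊗ₜ[C'] x = 0) : ∃ k : ℕ, g ^ k • x = 0 := by
  obtain ⟨ρ⟩ := h.retr
  have h1 := congrArg (ρ.toLinearMap.rTensor M) hx
  rw [LinearMap.rTensor_tmul, map_zero, AlgHom.toLinearMap_apply, map_one] at h1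
  haveI : IsLocalizedModule (Submonoid.powers g) (TensorProduct.mk C' (Localization.Away g) M 1) :=
    (isLocalizedModule_iff_isBaseChange (Submonoid.powers g) (Localization.Away g) _).2
      (TensorProduct.isBaseChange C' M (Localization.Away g))
  obtain ⟨⟨_, k, rfl⟩, hk⟩ := (IsLocalizedModule.eq_zero_iff (Submonoid.powers g)
    (TensorProduct.mk C' (Localization.Away g) M 1)).1 h1
  exact ⟨k, hk⟩

/-- Every element of the tensor product comes from the module after multiplying by a power of `g`. -/
theorem AwayIso.exists_pow_mul_eq_tmul (h : AwayIso (C := C) g) {M : Type v} [AddCommGroup M] [Module C' M]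
    (y : C ⊗[C'] M) : ∃ (k : ℕ) (x : M), algebraMap C' C g ^ k • y = (1 : C) ⊗ₜ[C'] x := by
  induction y using TensorProduct.induction_on with
  | zero => exact ⟨0, 0, by simp⟩
  | tmul b m =>
    obtain ⟨k, a, hk⟩ := h.den b
    exact ⟨k, a • m, by rw [TensorProduct.smul_tmul', smul_eq_mul, hk, Algebra.algebraMap_eq_smul_one,
      TensorProduct.smul_tmul]⟩
  | add y z hy hz =>
    obtain ⟨k, x, hk⟩ := hy
    obtain ⟨l, w, hl⟩ := hz
    refine ⟨k + l, g ^ l • x + g ^ k • w, ?_⟩
    have e1 : ∀ (i : ℕ) (m : M), (1 : C) ⊗ₜ[C'] (g ^ i • m) = algebraMap C' C g ^ i • ((1 : C) ⊗ₜ[C'] m) :=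
      fun i m => by
        rw [← TensorProduct.smul_tmul, TensorProduct.smul_tmul', smul_eq_mul, mul_one, ← map_pow,
          Algebra.algebraMap_eq_smul_one]
    rw [smul_add, TensorProduct.tmul_add, e1, e1, ← hk, ← hl, smul_smul, smul_smul]
    congr 1 <;> rw [← pow_add]
    rw [add_comm l k]

/-- From a bijective map of localisations. -/
theorem awayIso_of_bijective (hbij : Function.Bijective (Localization.awayMap (algebraMap C' C) g)) :
    AwayIso (C := C) g := by
  constructor
  · intro b
    obtain ⟨z, hz⟩ := hbij.2 (algebraMap C (Localization.Away (algebraMap C' C g)) b)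
    obtain ⟨a, ⟨_, k, rfl⟩, rfl⟩ := IsLocalization.exists_mk'_eq (Submonoid.powers g) z
    rw [Localization.awayMap, IsLocalization.Away.map, IsLocalization.map_mk', IsLocalization.mk'_eq_iff_eq_mul,
      ← map_mul] at hz
    obtain ⟨⟨_, m, rfl⟩, hm⟩ := (IsLocalization.eq_iff_exists (Submonoid.powers (algebraMap C' C g)) _).1 hz
    refine ⟨m + k, g ^ m * a, ?_⟩
    simp only [map_pow] at hm
    rw [map_mul, map_pow, pow_add, hm]
    ring
  · let e := RingEquiv.ofBijective _ hbij
    exact ⟨{ (e.symm.toRingHom.comp (algebraMap C (Localization.Away (algebraMap C' C g)))) with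
      commutes' := fun c => by
        show e.symm (algebraMap C _ (algebraMap C' C c)) = algebraMap C' (Localization.Away g) c
        rw [RingEquiv.symm_apply_eq]
        show _ = Localization.awayMap (algebraMap C' C) g (algebraMap C' (Localization.Away g) c)
        rw [Localization.awayMap, IsLocalization.Away.map, IsLocalization.map_eq] }⟩

/-- Open immersions agree locally with the base. -/
theorem exists_awayIso (h : AlgebraicGeometry.IsOpenImmersion
    (AlgebraicGeometry.Spec.map (CommRingCat.ofHom (algebraMap C' C)))) (q : Ideal C) [q.IsPrime] :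
    ∃ g : C', algebraMap C' C g ∉ q ∧ AwayIso (C := C) g ∧
      Function.Bijective (Localization.awayMap (algebraMap C' C) g) := by
  obtain ⟨g, hg, hbij⟩ := exists_awayMap_bijective (algebraMap C' C) h q
  exact ⟨g, hg, awayIso_of_bijective hbij, hbij⟩

/-- Local agreement is stable under base change. -/
theorem AwayIso.baseChange {A A₁ D' D : Type u} [CommRing A] [CommRing A₁] [CommRing D'] [CommRing D]
    [Algebra A C'] [Algebra A C] [IsScalarTower A C' C] [Algebra A A₁] [Algebra C' D'] [Algebra A₁ D']
    [Algebra A D'] [IsScalarTower A A₁ D'] [IsScalarTower A C' D']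
    (hD' : Algebra.IsPushout A A₁ C' D') [Algebra C D] [Algebra A₁ D] [Algebra A D]
    [IsScalarTower A A₁ D] [IsScalarTower A C D] (hD : Algebra.IsPushout A A₁ C D) [Algebra D' D]
    [Algebra C' D] [IsScalarTower C' D' D] [IsScalarTower C' C D] [IsScalarTower A₁ D' D]
    (h : AwayIso (C := C) g) : AwayIso (C := D) (algebraMap C' D' g) := by
  classical
  have hg : algebraMap D' D (algebraMap C' D' g) = algebraMap C D (algebraMap C' C g) := by
    rw [← IsScalarTower.algebraMap_apply, ← IsScalarTower.algebraMap_apply]
  constructor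
  · intro z
    obtain ⟨t, rfl⟩ := (Algebra.IsPushout.equiv A A₁ C D).surjective z
    induction t using TensorProduct.induction_on with
    | zero => exact ⟨0, 0, by simp⟩
    | tmul r b =>
      obtain ⟨k, a, hk⟩ := h.den b
      refine ⟨k, algebraMap A₁ D' r * algebraMap C' D' a, ?_⟩
      rw [Algebra.IsPushout.equiv_tmul, hg, map_mul, ← IsScalarTower.algebraMap_apply A₁ D' D,
        mul_left_comm, ← map_pow, ← map_mul, hk, ← IsScalarTower.algebraMap_apply C' D' D,
        ← IsScalarTower.algebraMap_apply C' C D]
    | add x y hx hy =>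
      obtain ⟨k, a, hk⟩ := hx
      obtain ⟨l, b, hl⟩ := hy
      refine ⟨k + l, algebraMap C' D' g ^ l * a + algebraMap C' D' g ^ k * b, ?_⟩
      rw [map_add, mul_add, map_add, map_mul, map_mul, map_pow, map_pow, ← hk, ← hl]
      ring
  · obtain ⟨ρ⟩ := h.retr
    let L := Localization.Away (algebraMap C' D' g)
    let σ : Localization.Away g →+* L := Localization.awayMap (algebraMap C' D') g
    have hσ : ∀ c, σ (algebraMap C' (Localization.Away g) c) = algebraMap D' L (algebraMap C' D' c) := fun c => by
      show Localization.awayMap (algebraMap C' D') g _ = _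
      rw [Localization.awayMap, IsLocalization.Away.map, IsLocalization.map_eq]
    let fC : C →ₐ[A] L :=
      { σ.comp ρ.toRingHom with
        commutes' := fun a => by
          show σ (ρ (algebraMap A C a)) = algebraMap A L a
          rw [IsScalarTower.algebraMap_apply A C' C, AlgHom.commutes, hσ,
            ← IsScalarTower.algebraMap_apply A C' D', IsScalarTower.algebraMap_apply A D' L] }
    let fA : A₁ →ₐ[A] L :=
      { (algebraMap D' L).comp (algebraMap A₁ D') with
        commutes' := fun a => by
          show algebraMap D' L (algebraMap A₁ D' (algebraMap A A₁ a)) = algebraMap A L a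
          rw [← IsScalarTower.algebraMap_apply A A₁ D', IsScalarTower.algebraMap_apply A D' L] }
    let E := Algebra.IsPushout.equiv A A₁ C D
    let Ψ := (Algebra.TensorProduct.productMap fA fC).toRingHom.comp E.symm.toRingEquiv.toRingHom
    refine ⟨{ Ψ with commutes' := fun d => ?_ }⟩
    show Ψ (algebraMap D' D d) = algebraMap D' L d
    obtain ⟨t, rfl⟩ := (Algebra.IsPushout.equiv A A₁ C' D').surjective d
    induction t using TensorProduct.induction_on with
    | zero => simp
    | add x y hx hy => simp only [map_add, hx, hy]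
    | tmul r c =>
      have h1 : algebraMap D' D (Algebra.IsPushout.equiv A A₁ C' D' (r ⊗ₜ c)) = E (r ⊗ₜ algebraMap C' C c) := by
        rw [Algebra.IsPushout.equiv_tmul, Algebra.IsPushout.equiv_tmul, map_mul,
          ← IsScalarTower.algebraMap_apply A₁ D' D, ← IsScalarTower.algebraMap_apply C' D' D,
          ← IsScalarTower.algebraMap_apply C' C D]
      rw [h1]
      show Algebra.TensorProduct.productMap fA fC (E.symm (E (r ⊗ₜ algebraMap C' C c))) = _
      rw [E.symm_apply_apply, Algebra.TensorProduct.productMap_apply_tmul, Algebra.IsPushout.equiv_tmul, map_mul]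
      congr 1
      show σ (ρ (algebraMap C' C c)) = _
      rw [AlgHom.commutes, hσ]

end Groth.Agent.OmegaCI
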