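import Groth.Prelude.Def_QFDual
import Groth.Agent.OmegaCI.Local
import Mathlib.RingTheory.Ideal.AssociatedPrime.Basic
import Mathlib.RingTheory.Localization.FractionRing
import Mathlib.RingTheory.Localization.Integer
import Mathlib.RingTheory.IntegralClosure.Algebra.Basic
import Mathlib.LinearAlgebra.Dual.Lemmas

/-!
Associated primes of the dualizing module.
-/

set_option autoImplicit false
set_option linter.style.haveILetI false

universe u v

open TensorProduct Submodule

namespace Groth.Agent.OmegaCI

/-- A finite torsion-free extension domain has a nonzero form. -/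
theorem exists_form_ne_zero (R : Type u) (S : Type v) [CommRing R] [IsDomain R] [CommRing S] [IsDomain S]
    [Algebra R S] [Module.Finite R S] (hinj : Function.Injective (algebraMap R S)) :
    ∃ f : S →ₗ[R] R, f ≠ 0 := by
  classical
  let K := FractionRing R
  let L := FractionRing S
  haveI : FaithfulSMul R L := (faithfulSMul_iff_algebraMap_injective R L).2 (by
    rw [IsScalarTower.algebraMap_eq R S L]
    exact (IsFractionRing.injective S L).comp hinj)
  letI : Algebra K L := FractionRing.liftAlgebra R L
  obtain ⟨g, hg⟩ : ∃ g : Module.Dual K L, g 1 ≠ 0 := by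
    by_contra h
    push Not at h
    exact one_ne_zero ((Module.forall_dual_apply_eq_zero_iff K (1 : L)).1 h)
  obtain ⟨n, x, hx⟩ := Module.Finite.exists_fin (R := R) (M := S)
  obtain ⟨d, hd⟩ := IsLocalization.exist_integer_multiples (nonZeroDivisors R) (Finset.univ : Finset (Fin n))
    (fun i => g (algebraMap S L (x i)))
  let G : S →ₗ[R] K :=
    (d : R) • ((g.restrictScalars R) ∘ₗ (IsScalarTower.toAlgHom R S L).toLinearMap)
  have hG : ∀ s, G s ∈ LinearMap.range (Algebra.linearMap R K) := by
    intro s
    have hs : s ∈ span R (Set.range x) := hx ▸ mem_top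
    induction hs using Submodule.span_induction with
    | mem y hy =>
      obtain ⟨i, rfl⟩ := hy
      obtain ⟨r, hr⟩ := hd i (Finset.mem_univ i)
      exact ⟨r, hr⟩
    | zero => simp
    | add a b _ _ ha hb => rw [map_add]; exact add_mem ha hb
    | smul r a _ ha => rw [map_smul]; exact Submodule.smul_mem _ r ha
  let e := LinearEquiv.ofInjective (Algebra.linearMap R K) (IsFractionRing.injective R K)
  refine ⟨e.symm.toLinearMap ∘ₗ G.codRestrict _ hG, fun h => hg ?_⟩
  have h1 := DFunLike.congr_fun h 1
  simp only [LinearMap.comp_apply, LinearMap.zero_apply, LinearEquiv.coe_coe, LinearEquiv.map_eq_zero_iff] at h1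
  have h2 : G 1 = 0 := congrArg Subtype.val h1
  simp only [G, LinearMap.smul_apply, LinearMap.comp_apply, AlgHom.toLinearMap_apply,
    LinearMap.coe_restrictScalars, map_one, Algebra.smul_def] at h2
  exact (mul_eq_zero.1 h2).resolve_left (by
    simpa using IsFractionRing.to_map_ne_zero_of_mem_nonZeroDivisors (K := K) d.2)

variable {A : Type u} {B : Type v} [CommRing A] [CommRing B] [Algebra A B]

theorem associatedPrimes_omega [IsNoetherianRing A] [IsNoetherianRing B] [Module.Finite A B] :
    associatedPrimes B (Disc.Omega A B) =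
      {q : Ideal B | q.IsPrime ∧ q.comap (algebraMap A B) ∈ associatedPrimes A A} := by
  classical
  ext q
  simp only [Set.mem_setOf_eq, AssociatedPrimes.mem_iff, isAssociatedPrime_iff]
  constructor
  · rintro ⟨hq, φ, hφ⟩
    refine ⟨hq, Ideal.IsPrime.comap _, ?_⟩
    obtain ⟨n, x, hx⟩ := Module.Finite.exists_fin (R := A) (M := B)
    have hann : q.comap (algebraMap A B) =
        Finset.univ.inf fun i => colon (⊥ : Submodule A A) {φ.toLinearMap (x i)} := by
      ext a
      simp only [Ideal.mem_comap, hφ, mem_colon_singleton, Submodule.mem_bot, Submodule.mem_finsetInf,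
        Finset.mem_univ, true_implies]
      constructor
      · intro h i
        have := congrArg (fun ψ : Disc.Omega A B => ψ.toLinearMap (x i)) h
        simpa [← Algebra.smul_def] using this
      · intro h
        apply Disc.Omega.ext
        refine LinearMap.ext_on_range hx fun i => ?_
        simpa [← Algebra.smul_def] using h i
    obtain ⟨i, -, hi⟩ := (Ideal.IsPrime.inf_le' (hq.comap _)).1 hann.ge
    exact ⟨φ.toLinearMap (x i), le_antisymm (hann.le.trans (Finset.inf_le (Finset.mem_univ i))) hi⟩
  · rintro ⟨hq, hp, a₀, ha₀⟩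
    refine ⟨hq, ?_⟩
    let p := q.comap (algebraMap A B)
    haveI : q.LiesOver p := ⟨rfl⟩
    haveI : p.IsPrime := hp
    haveI : Module.Finite (A ⧸ p) (B ⧸ q) := Module.Finite.of_restrictScalars_finite A (A ⧸ p) (B ⧸ q)
    have hinj : Function.Injective (algebraMap (A ⧸ p) (B ⧸ q)) :=
      Ideal.algebraMap_quotient_injective
    obtain ⟨f, hf⟩ := exists_form_ne_zero (A ⧸ p) (B ⧸ q) hinj
    have hmul : p ≤ LinearMap.ker (LinearMap.toSpanSingleton A A a₀) := fun a ha => by
      have : a ∈ colon (⊥ : Submodule A A) {a₀} := by rw [← ha₀]; exact ha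
      simpa [mem_colon_singleton] using this
    let m : (A ⧸ p) →ₗ[A] A := Submodule.liftQ p (LinearMap.toSpanSingleton A A a₀) hmul
    have hm : Function.Injective m := by
      rw [injective_iff_map_eq_zero]
      intro z hz
      obtain ⟨a, rfl⟩ := Ideal.Quotient.mk_surjective z
      rw [Ideal.Quotient.eq_zero_iff_mem]
      show a ∈ q.comap (algebraMap A B)
      rw [ha₀, mem_colon_singleton]
      exact hz
    let φ : Disc.Omega A B :=
      ⟨m ∘ₗ (f.restrictScalars A) ∘ₗ (Ideal.Quotient.mkₐ A q).toLinearMap⟩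
    have happ : ∀ y, φ.toLinearMap y = m (f (Ideal.Quotient.mk q y)) := fun y => rfl
    refine ⟨φ, le_antisymm (fun b hb => ?_) fun b hb => ?_⟩
    · rw [mem_colon_singleton, Submodule.mem_bot]
      apply Disc.Omega.ext
      refine LinearMap.ext fun y => ?_
      rw [Disc.Omega.smul_toLinearMap_apply, happ, map_mul, (Ideal.Quotient.eq_zero_iff_mem).2 hb, zero_mul,
        map_zero, map_zero, Disc.Omega.zero_toLinearMap, LinearMap.zero_apply]
    · by_contra hbq
      rw [mem_colon_singleton, Submodule.mem_bot] at hb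
      have hb' : ∀ y, f (Ideal.Quotient.mk q b * y) = 0 := fun y => by
        obtain ⟨y, rfl⟩ := Ideal.Quotient.mk_surjective y
        apply hm
        rw [map_zero, ← map_mul, ← happ, ← Disc.Omega.smul_toLinearMap_apply, hb]
        rfl
      haveI : Algebra.IsIntegral (A ⧸ p) (B ⧸ q) := Algebra.IsIntegral.of_finite _ _
      obtain ⟨c, hc0, hc⟩ : ∃ c : A ⧸ p, c ≠ 0 ∧ algebraMap _ (B ⧸ q) c ∈ Ideal.span {Ideal.Quotient.mk q b} := by
        have := Ideal.comap_ne_bot_of_integral_mem (R := A ⧸ p) (I := Ideal.span {Ideal.Quotient.mk q b})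
          (mt Ideal.Quotient.eq_zero_iff_mem.1 hbq) (Ideal.mem_span_singleton_self _)
          (Algebra.IsIntegral.isIntegral _)
        obtain ⟨c, hc, hc0⟩ := Submodule.exists_mem_ne_zero_of_ne_bot this
        exact ⟨c, hc0, hc⟩
      obtain ⟨w, hw⟩ := Ideal.mem_span_singleton.1 hc
      refine hf (LinearMap.ext fun y => ?_)
      have h3 := hb' (w * y)
      rw [← mul_assoc, ← hw, ← Algebra.smul_def, map_smul, smul_eq_mul] at h3
      simpa using (mul_eq_zero.1 h3).resolve_left hc0

/-- Associated primes descend and ascend along an open immersion. -/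
theorem associatedPrimes_tensor {C' C : Type u} [CommRing C'] [CommRing C] [IsNoetherianRing C']
    [IsNoetherianRing C] [Algebra C' C] {M : Type v} [AddCommGroup M] [Module C' M]
    (hopen : AlgebraicGeometry.IsOpenImmersion
      (AlgebraicGeometry.Spec.map (CommRingCat.ofHom (algebraMap C' C)))) :
    associatedPrimes C (C ⊗[C'] M) = {q | q.IsPrime ∧ q.comap (algebraMap C' C) ∈ associatedPrimes C' M} := by
  classical
  ext q
  simp only [Set.mem_setOf_eq, AssociatedPrimes.mem_iff, isAssociatedPrime_iff]
  constructor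
  · rintro ⟨hq, z, hz⟩
    refine ⟨hq, hq.comap _, ?_⟩
    haveI := hq
    obtain ⟨g, hg, hiso, -⟩ := exists_awayIso hopen q
    obtain ⟨k, x, hx⟩ := hiso.exists_pow_mul_eq_tmul z
    have hgn : ∀ n : ℕ, algebraMap C' C g ^ n ∉ q := fun n h => hg (hq.mem_of_pow_mem n h)
    have key : ∀ c : C', c ∈ q.comap (algebraMap C' C) ↔ ∃ l, g ^ l • c • x = 0 := by
      intro c
      constructor
      · intro hc
        apply hiso.exists_pow_smul_eq_zero
        rw [Ideal.mem_comap, hz, mem_colon_singleton, Submodule.mem_bot] at hc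
        rw [← TensorProduct.smul_tmul, Algebra.smul_def c (1 : C), ← smul_eq_mul, ← TensorProduct.smul_tmul',
          ← hx, smul_comm, hc, smul_zero]
      · rintro ⟨l, hl⟩
        have : algebraMap C' C (g ^ l * c) * algebraMap C' C g ^ k ∈ q := by
          rw [hz, mem_colon_singleton, Submodule.mem_bot, mul_smul, hx, TensorProduct.smul_tmul', smul_eq_mul,
            mul_one, Algebra.algebraMap_eq_smul_one, TensorProduct.smul_tmul, mul_smul, hl,
            TensorProduct.tmul_zero]
        rw [map_mul, map_pow] at this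
        exact ((hq.mem_or_mem ((hq.mem_or_mem this).resolve_right (hgn k)))).resolve_left (hgn l)
    obtain ⟨T, hT⟩ := IsNoetherian.noetherian (R := C') (q.comap (algebraMap C' C))
    have hl : ∀ c ∈ T, ∃ l, g ^ l • c • x = 0 := fun c hc => (key c).1 (hT ▸ Ideal.subset_span hc)
    choose! l hl using hl
    let L := T.sup l
    refine ⟨g ^ L • x, le_antisymm ?_ fun c hc => (key c).2 ⟨L, ?_⟩⟩
    · rw [← hT, Submodule.span_le]
      intro c hc
      rw [SetLike.mem_coe, mem_colon_singleton, Submodule.mem_bot, smul_comm,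
        ← Nat.sub_add_cancel (show l c ≤ L from Finset.le_sup (f := l) hc), pow_add, mul_smul, hl c hc, smul_zero]
    · rw [mem_colon_singleton, Submodule.mem_bot] at hc
      rwa [smul_comm]
  · rintro ⟨hq, hq', x, hx⟩
    refine ⟨hq, ?_⟩
    haveI := hq
    obtain ⟨g, hg, hiso, -⟩ := exists_awayIso hopen q
    have hgn : ∀ n : ℕ, algebraMap C' C g ^ n ∉ q := fun n h => hg (hq.mem_of_pow_mem n h)
    have key : ∀ b : C, b ∈ q ↔ ∃ l, algebraMap C' C g ^ l • b • ((1 : C) ⊗ₜ[C'] x) = 0 := by
      intro b
      obtain ⟨k, a, hk⟩ := hiso.den b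
      have e1 : algebraMap C' C g ^ k • b • ((1 : C) ⊗ₜ[C'] x) = (1 : C) ⊗ₜ[C'] (a • x) := by
        rw [smul_smul, hk, TensorProduct.smul_tmul', smul_eq_mul, mul_one, Algebra.algebraMap_eq_smul_one,
          TensorProduct.smul_tmul]
      constructor
      · intro hb
        have ha : a ∈ q.comap (algebraMap C' C) := by
          rw [Ideal.mem_comap, ← hk]; exact q.mul_mem_left _ hb
        rw [hx, mem_colon_singleton, Submodule.mem_bot] at ha
        exact ⟨k, by rw [e1, ha, TensorProduct.tmul_zero]⟩
      · rintro ⟨l, hl⟩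
        have h1 : algebraMap C' C g ^ l • ((1 : C) ⊗ₜ[C'] (a • x)) = 0 := by
          rw [← e1, smul_comm, hl, smul_zero]
        rw [← map_pow, TensorProduct.smul_tmul', smul_eq_mul, mul_one, Algebra.algebraMap_eq_smul_one,
          TensorProduct.smul_tmul] at h1
        obtain ⟨m, hm⟩ := hiso.exists_pow_smul_eq_zero _ h1
        have : g ^ m * g ^ l * a ∈ q.comap (algebraMap C' C) := by
          rw [hx, mem_colon_singleton, Submodule.mem_bot, mul_smul, mul_smul, hm]
        simp only [Ideal.mem_comap, map_mul, map_pow, ← hk] at this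
        exact (hq.mem_or_mem ((hq.mem_or_mem this).resolve_left
          (hq.mul_notMem (hgn m) (hgn l)))).resolve_left (hgn k)
    obtain ⟨T, hT⟩ := IsNoetherian.noetherian (R := C) q
    have hl : ∀ c ∈ T, ∃ l, algebraMap C' C g ^ l • c • ((1 : C) ⊗ₜ[C'] x) = 0 :=
      fun c hc => (key c).1 (hT ▸ Ideal.subset_span hc)
    choose! l hl using hl
    let L := T.sup l
    refine ⟨algebraMap C' C g ^ L • ((1 : C) ⊗ₜ[C'] x), le_antisymm ?_ fun c hc => (key c).2 ⟨L, ?_⟩⟩
    · rw [← hT, Submodule.span_le]
      intro c hc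
      rw [SetLike.mem_coe, mem_colon_singleton, Submodule.mem_bot, smul_comm,
        ← Nat.sub_add_cancel (show l c ≤ L from Finset.le_sup (f := l) hc), pow_add, mul_smul, hl c hc, smul_zero]
    · rw [mem_colon_singleton, Submodule.mem_bot] at hc
      rwa [smul_comm]

end Groth.Agent.OmegaCI
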