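import Groth.Prelude.Def_Disc
import Mathlib.RingTheory.Flat.Basic
import Mathlib.RingTheory.Noetherian.Basic
import Mathlib.LinearAlgebra.TensorProduct.Pi

/-!
Forms on a finite algebra commute with flat base change.
-/

set_option autoImplicit false

universe u

open TensorProduct

namespace Groth.Agent.OmegaCI

variable {A : Type u} (R : Type u) {B : Type u} [CommRing A] [CommRing R] [CommRing B] [Algebra A R] [Algebra A B]

/-- The base change map on forms. -/
noncomputable def omegaBC₀ (φ : Disc.Omega A B) : Disc.Omega R (R ⊗[A] B) :=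
  ⟨LinearMap.liftBaseChange R ((Algebra.linearMap A R) ∘ₗ φ.toLinearMap)⟩

theorem omegaBC₀_tmul (φ : Disc.Omega A B) (r : R) (b : B) :
    (omegaBC₀ R φ).toLinearMap (r ⊗ₜ b) = r * algebraMap A R (φ.toLinearMap b) := rfl

theorem omegaBC₀_smul (c : B) (φ : Disc.Omega A B) :
    omegaBC₀ R (c • φ) = ((1 : R) ⊗ₜ[A] c : R ⊗[A] B) • omegaBC₀ R φ := by
  apply Disc.Omega.ext
  refine LinearMap.ext fun z => ?_
  induction z using TensorProduct.induction_on with
  | zero => rw [map_zero, map_zero]
  | tmul t x =>
    rw [omegaBC₀_tmul, Disc.Omega.smul_toLinearMap_apply, Disc.Omega.smul_toLinearMap_apply,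
      Algebra.TensorProduct.tmul_mul_tmul, one_mul, omegaBC₀_tmul]
  | add x y hx hy => rw [map_add, map_add, hx, hy]

/-- The same map on the tensor product with the dual. -/
noncomputable def omegaPhi : R ⊗[A] (B →ₗ[A] A) →+ Disc.Omega R (R ⊗[A] B) :=
  TensorProduct.liftAddHom
    (AddMonoidHom.mk' (fun r => AddMonoidHom.mk'
        (fun φ => algebraMap R (R ⊗[A] B) r • omegaBC₀ R (⟨φ⟩ : Disc.Omega A B)) fun φ ψ => by
      rw [← smul_add]
      congr 1
      apply Disc.Omega.ext
      refine LinearMap.ext fun z => ?_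
      rw [Disc.Omega.add_toLinearMap, LinearMap.add_apply]
      induction z using TensorProduct.induction_on with
      | zero => simp
      | tmul t x => rw [omegaBC₀_tmul, omegaBC₀_tmul, omegaBC₀_tmul, LinearMap.add_apply, map_add, mul_add]
      | add x y hx hy => simp only [map_add, hx, hy]; abel) fun r s => by
      ext φ : 1
      exact (congrArg (· • omegaBC₀ R (⟨φ⟩ : Disc.Omega A B)) (map_add (algebraMap R (R ⊗[A] B)) r s)).trans
        (add_smul _ _ _))
    fun a r φ => by
      simp only [AddMonoidHom.mk'_apply]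
      apply Disc.Omega.ext
      refine LinearMap.ext fun z => ?_
      rw [Disc.Omega.smul_toLinearMap_apply, Disc.Omega.smul_toLinearMap_apply]
      induction z using TensorProduct.induction_on with
      | zero => simp
      | tmul t x =>
        rw [Algebra.TensorProduct.algebraMap_apply, Algebra.TensorProduct.algebraMap_apply,
          Algebra.TensorProduct.tmul_mul_tmul, Algebra.TensorProduct.tmul_mul_tmul,
          omegaBC₀_tmul, omegaBC₀_tmul]
        simp only [Algebra.algebraMap_self, RingHom.id_apply, one_mul, LinearMap.smul_apply,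
          smul_eq_mul, map_mul]
        rw [Algebra.smul_def]
        ring
      | add x y hx hy => simp only [mul_add, map_add, hx, hy]

theorem omegaPhi_tmul (r : R) (φ : B →ₗ[A] A) :
    omegaPhi R (r ⊗ₜ φ) = algebraMap R (R ⊗[A] B) r • omegaBC₀ R (⟨φ⟩ : Disc.Omega A B) := rfl

theorem omegaPhi_apply_tmul (r : R) (φ : B →ₗ[A] A) (t : R) (b : B) :
    (omegaPhi R (r ⊗ₜ φ)).toLinearMap (t ⊗ₜ b) = r * t * algebraMap A R (φ b) := by
  rw [omegaPhi_tmul, Disc.Omega.smul_toLinearMap_apply, Algebra.TensorProduct.algebraMap_apply,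
    Algebra.TensorProduct.tmul_mul_tmul, omegaBC₀_tmul, one_mul, Algebra.algebraMap_self, RingHom.id_apply]

theorem omegaPhi_bijective [IsNoetherianRing A] [Module.Finite A B] [Module.Flat A R] :
    Function.Bijective (omegaPhi (A := A) (B := B) R) := by
  classical
  obtain ⟨l, π, hπ⟩ := Module.Finite.exists_fin' A B
  obtain ⟨S, hS⟩ := IsNoetherian.noetherian (LinearMap.ker π)
  let x : Fin l → B := fun j => π (Pi.single j 1)
  let ev : (B →ₗ[A] A) →ₗ[A] (Fin l → A) :=
    { toFun := fun φ j => φ (x j)
      map_add' := fun _ _ => rfl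
      map_smul' := fun _ _ => rfl }
  let Ψ : (Fin l → A) →ₗ[A] (S → A) :=
    LinearMap.pi fun k => ∑ j, (k : Fin l → A) j • LinearMap.proj j
  have hπx : ∀ v : Fin l → A, π v = ∑ j, v j • x j := fun v => by
    conv_lhs => rw [pi_eq_sum_univ' v, map_sum]
    simp only [map_smul]
    rfl
  have hev : Function.Injective ev := fun φ ψ h => LinearMap.ext fun b => by
    obtain ⟨v, rfl⟩ := hπ b
    rw [hπx, map_sum, map_sum]
    exact Finset.sum_congr rfl fun j _ => by rw [map_smul, map_smul, show φ (x j) = ψ (x j) from congrFun h j]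
  have hΨ : ∀ c k, Ψ c k = ∑ j, (k : Fin l → A) j * c j := fun c k => by simp [Ψ]
  have hex : Function.Exact ev Ψ := by
    intro c
    constructor
    · intro hc
      let F : (Fin l → A) →ₗ[A] A := Fintype.linearCombination A c
      have hker : LinearMap.ker π ≤ LinearMap.ker F := by
        rw [← hS, Submodule.span_le]
        intro k hk
        show F k = 0
        rw [Fintype.linearCombination_apply]
        simpa [hΨ] using congrFun hc ⟨k, hk⟩
      refine ⟨((LinearMap.ker π).liftQ F hker) ∘ₗ (π.quotKerEquivOfSurjective hπ).symm.toLinearMap, funext fun j => ?_⟩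
      show (LinearMap.ker π).liftQ F hker ((π.quotKerEquivOfSurjective hπ).symm (π (Pi.single j 1))) = c j
      have h1 : (π.quotKerEquivOfSurjective hπ).symm (π (Pi.single j 1)) =
          Submodule.Quotient.mk (Pi.single j 1) := (LinearEquiv.symm_apply_eq _).2 rfl
      rw [h1]
      show F (Pi.single j 1) = c j
      simp [F]
    · rintro ⟨φ, rfl⟩
      funext k
      rw [hΨ]
      show ∑ j, (k : Fin l → A) j * φ (x j) = 0
      have hk : π (k : Fin l → A) = 0 := (hS ▸ Submodule.subset_span k.2 : (k : Fin l → A) ∈ LinearMap.ker π)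
      have := congrArg φ hk
      rw [hπx, map_sum, map_zero] at this
      simpa using this
  let e := TensorProduct.piScalarRight A R R (Fin l)
  have hcomp : ∀ t j, e (LinearMap.lTensor R ev t) j =
      (omegaPhi R t).toLinearMap ((1 : R) ⊗ₜ[A] x j) := by
    intro t j
    induction t using TensorProduct.induction_on with
    | zero => simp
    | tmul r φ =>
      rw [LinearMap.lTensor_tmul, omegaPhi_apply_tmul, mul_one]
      simp [e, ev, Algebra.smul_def, mul_comm]
    | add a b ha hb => simp [ha, hb]
  have hgen : ∀ (χ χ' : Disc.Omega R (R ⊗[A] B)),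
      (∀ j, χ.toLinearMap ((1 : R) ⊗ₜ[A] x j) = χ'.toLinearMap ((1 : R) ⊗ₜ[A] x j)) → χ = χ' := by
    intro χ χ' h
    apply Disc.Omega.ext
    refine LinearMap.ext fun z => ?_
    induction z using TensorProduct.induction_on with
    | zero => simp
    | tmul r b =>
      obtain ⟨v, rfl⟩ := hπ b
      rw [hπx, TensorProduct.tmul_sum, map_sum, map_sum]
      refine Finset.sum_congr rfl fun j _ => ?_
      rw [TensorProduct.tmul_smul, TensorProduct.smul_tmul', ← mul_one (v j • r), ← smul_eq_mul,
        ← TensorProduct.smul_tmul', map_smul, map_smul, h]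
    | add a b ha hb => rw [map_add, map_add, ha, hb]
  refine ⟨?_, fun χ => ?_⟩
  · rw [injective_iff_map_eq_zero]
    intro t ht
    refine Module.Flat.lTensor_preserves_injective_linearMap ev hev ?_
    rw [map_zero]
    apply e.injective
    funext j
    rw [hcomp, ht, map_zero]
    rfl
  · let v : Fin l → R := fun j => χ.toLinearMap ((1 : R) ⊗ₜ[A] x j)
    have hv : LinearMap.lTensor R Ψ (e.symm v) = 0 := by
      apply (TensorProduct.piScalarRight A R R S).injective
      rw [map_zero]
      funext k
      have h1 : ∀ w, TensorProduct.piScalarRight A R R S (LinearMap.lTensor R Ψ w) k =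
          ∑ j, algebraMap A R ((k : Fin l → A) j) * e w j := by
        intro w
        induction w using TensorProduct.induction_on with
        | zero => simp
        | tmul r c =>
          simp [e, hΨ, Algebra.smul_def, map_sum, Finset.sum_mul, mul_assoc]
        | add a b ha hb => simp only [map_add, Pi.add_apply, ha, hb, mul_add, Finset.sum_add_distrib]
      rw [h1, LinearEquiv.apply_symm_apply, Pi.zero_apply]
      have hk : π (k : Fin l → A) = 0 := (hS ▸ Submodule.subset_span k.2 : (k : Fin l → A) ∈ LinearMap.ker π)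
      have := congrArg (fun b => χ.toLinearMap ((1 : R) ⊗ₜ[A] b)) hk
      simp only [hπx, TensorProduct.tmul_sum, map_sum, TensorProduct.tmul_zero, map_zero] at this
      rw [← this]
      refine Finset.sum_congr rfl fun j _ => ?_
      rw [TensorProduct.tmul_smul, ← IsScalarTower.algebraMap_smul R ((k : Fin l → A) j), map_smul, smul_eq_mul]
    obtain ⟨t, ht⟩ := ((Module.Flat.lTensor_exact R hex) _).1 hv
    refine ⟨t, hgen _ _ fun j => ?_⟩
    rw [← hcomp, ht, LinearEquiv.apply_symm_apply]

end Groth.Agent.OmegaCI
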