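import Groth.Agent.OmegaCI.Split
import Groth.Agent.OmegaCI.DualBaseChange
import Mathlib.LinearAlgebra.Contraction
import Mathlib.LinearAlgebra.Dual.Defs
import Mathlib.LinearAlgebra.TensorProduct.Tower

/-!
Forms with coefficients in a module: `Hom_A(B', A) ⊗ N → Hom_A(B', N)` is bijective near flat points.
-/

set_option autoImplicit false
set_option linter.style.haveILetI false

universe u

open TensorProduct Module

namespace Groth.Agent.OmegaCI

variable {A B' N : Type u} [CommRing A] [CommRing B'] [Algebra A B'] [AddCommGroup N] [Module A N]

/-- The action through the argument on `Hom(B', A) ⊗ N`, as a map in the scalar. -/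
noncomputable def actDual (t : Dual A B' ⊗[A] N) : B' →ₗ[A] Dual A B' ⊗[A] N :=
  LinearMap.applyₗ t ∘ₗ LinearMap.rTensorHom N ∘ₗ (Module.Dual.transpose ∘ₗ LinearMap.mul A B')

theorem actDual_tmul (φ : Dual A B') (m : N) (u : B') :
    actDual (φ ⊗ₜ[A] m) u = (φ ∘ₗ LinearMap.mulLeft A u) ⊗ₜ[A] m := rfl

/-- The action through the argument on `Hom(B', N)`, as a map in the scalar. -/
noncomputable def actHom (f : B' →ₗ[A] N) : B' →ₗ[A] B' →ₗ[A] N :=
  (LinearMap.mul A B').compr₂ f

theorem actHom_apply (f : B' →ₗ[A] N) (u x : B') : actHom f u x = f (u * x) := rfl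

variable (R : Type u) [CommRing R] [Algebra A R]

/-- Base change of forms with coefficients. -/
noncomputable def gam : R ⊗[A] (B' →ₗ[A] N) →ₗ[R] (R ⊗[A] B' →ₗ[R] R ⊗[A] N) :=
  LinearMap.liftBaseChange R (LinearMap.baseChangeHom A R B' N)

theorem gam_tmul (r : R) (f : B' →ₗ[A] N) (s : R) (b : B') :
    gam R (r ⊗ₜ f) (s ⊗ₜ b) = (r * s) ⊗ₜ[A] f b := by
  simp [gam, TensorProduct.smul_tmul']

theorem gam_injective [Module.Flat A R] [Module.Finite A B'] :
    Function.Injective (gam (A := A) (B' := B') (N := N) R) := by
  classical
  obtain ⟨l, p, hp⟩ := Module.Finite.exists_fin' A B'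
  let x : Fin l → B' := fun j => p (Pi.single j 1)
  let ev : (B' →ₗ[A] N) →ₗ[A] (Fin l → N) :=
    { toFun := fun φ j => φ (x j)
      map_add' := fun _ _ => rfl
      map_smul' := fun _ _ => rfl }
  have hev : Function.Injective ev := fun φ ψ h => LinearMap.ext fun b => by
    obtain ⟨v, rfl⟩ := hp b
    have hv : p v = ∑ j, v j • x j := by
      conv_lhs => rw [pi_eq_sum_univ' v, map_sum]
      simp only [map_smul]
      rfl
    rw [hv, map_sum, map_sum]
    exact Finset.sum_congr rfl fun j _ => by rw [map_smul, map_smul, show φ (x j) = ψ (x j) from congrFun h j]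
  let e := TensorProduct.piRight A A R (fun _ : Fin l => N)
  rw [injective_iff_map_eq_zero]
  intro z hz
  refine Module.Flat.lTensor_preserves_injective_linearMap ev hev ?_
  rw [map_zero]
  apply e.injective
  funext j
  have h1 : ∀ w, e (LinearMap.lTensor R ev w) j = gam R w ((1 : R) ⊗ₜ[A] x j) := by
    intro w
    induction w using TensorProduct.induction_on with
    | zero => simp
    | tmul r f =>
      rw [gam_tmul, mul_one, LinearMap.lTensor_tmul]
      simp [e, ev]
    | add a b ha hb => simp only [map_add, Pi.add_apply, LinearMap.add_apply, ha, hb]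
  rw [h1, hz]
  simp

variable (A B') in
/-- The local bijectivity. -/
theorem coeff_local [IsNoetherianRing A] [Module.Finite A B'] (q' : Ideal B') [q'.IsPrime]
    (hflat : Module.Flat A (Localization.AtPrime q')) :
    (∀ t : Dual A B' ⊗[A] N, dualTensorHom A B' N t = 0 → ∃ u ∉ q', actDual t u = 0) ∧
      ∀ f : B' →ₗ[A] N, ∃ u ∉ q', ∃ t, dualTensorHom A B' N t = f ∘ₗ LinearMap.mulLeft A u := by
  classical
  obtain ⟨R, _, _, hR, n, hnq, e, he, l, π, v, hsplit⟩ := exists_split q' hflat
  -- descent
  have hdesc : ∀ {X : Type u} [AddCommGroup X] [Module A X] (L : B' →ₗ[A] X),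
      LinearMap.lTensor R L e = 0 → ∃ u ∉ q', L u = 0 := by
    intro X _ _ L h
    by_contra hcon
    push Not at hcon
    obtain ⟨w, hw⟩ := ((Module.Flat.lTensor_exact R (LinearMap.exact_subtype_ker_map L)) e).1 h
    refine he (hw ▸ ?_)
    clear hw
    induction w using TensorProduct.induction_on with
    | zero => rw [map_zero]; exact n.zero_mem
    | tmul r a =>
      rw [LinearMap.lTensor_tmul, Submodule.subtype_apply,
        show (r ⊗ₜ[A] (a : B')) = (r ⊗ₜ[A] (1 : B')) * ((1 : R) ⊗ₜ[A] (a : B')) from by
          rw [Algebra.TensorProduct.tmul_mul_tmul, mul_one, one_mul]]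
      refine n.mul_mem_left _ (hnq _ ?_)
      by_contra ha
      exact hcon a ha a.2
    | add a b ha hb => rw [map_add]; exact n.add_mem ha hb
  let rd := TensorProduct.AlgebraTensorModule.rid A R R
  have hrd : ∀ (z : R ⊗[A] Dual A B') (x : R ⊗[A] B'), rd (gam R z x) = (omegaPhi R z).toLinearMap x := by
    intro z x
    induction z using TensorProduct.induction_on with
    | zero => simp
    | tmul r f =>
      induction x using TensorProduct.induction_on with
      | zero => simp
      | tmul s b => rw [gam_tmul, omegaPhi_apply_tmul]; simp [rd, Algebra.smul_def, mul_comm]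
      | add a b ha hb => simp only [map_add, ha, hb]
    | add a b ha hb => simp only [map_add, LinearMap.add_apply, ha, hb]; rfl
  have hb := omegaPhi_bijective (A := A) (B := B') R
  choose ph hph using fun i => hb.2 ⟨π i⟩
  have hph' : ∀ i x, rd (gam R (ph i) x) = π i x := fun i x => by rw [hrd, hph]
  let D := TensorProduct.AlgebraTensorModule.distribBaseChange A R (Dual A B') N
  let S : (R ⊗[A] B' →ₗ[R] R ⊗[A] N) → R ⊗[A] (Dual A B' ⊗[A] N) :=
    fun F => D.symm (∑ i, ph i ⊗ₜ[R] F (v i))
  refine ⟨fun t ht => ?_, fun f => ?_⟩
  · refine hdesc (X := Dual A B' ⊗[A] N) (actDual t) ?_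
    have key : ∀ t : Dual A B' ⊗[A] N,
        LinearMap.lTensor R (actDual t) e = S ((dualTensorHom A B' N t).baseChange R) := by
      intro t
      induction t using TensorProduct.induction_on with
      | zero =>
        have h0 : actDual (0 : Dual A B' ⊗[A] N) = 0 := LinearMap.ext fun u => by simp [actDual]
        simp [h0, S]
      | add a b ha hb' =>
        have h0 : actDual (a + b) = actDual a + actDual b := LinearMap.ext fun u => by simp [actDual]
        rw [h0, LinearMap.lTensor_add, LinearMap.add_apply, ha, hb', map_add (dualTensorHom A B' N), LinearMap.baseChange_add]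
        simp only [S, LinearMap.add_apply, TensorProduct.tmul_add, Finset.sum_add_distrib, map_add]
      | tmul φ m =>
        let L : B' →ₗ[A] Dual A B' := actHom φ
        have hcoeff : LinearMap.lTensor R L e = ∑ i, rd ((LinearMap.baseChange R φ) (v i)) • ph i := by
          refine gam_injective R (LinearMap.ext fun x => rd.injective ?_)
          have h1 : ∀ z, gam R (LinearMap.lTensor R L z) x = LinearMap.baseChange R φ (z * x) := by
            intro z
            induction z using TensorProduct.induction_on with
            | zero => simp
            | tmul r b =>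
              induction x using TensorProduct.induction_on with
              | zero => simp
              | tmul s c =>
                rw [LinearMap.lTensor_tmul, gam_tmul, Algebra.TensorProduct.tmul_mul_tmul, LinearMap.baseChange_tmul]
                rfl
              | add a b ha hb => simp only [map_add, mul_add, ha, hb]
            | add a b ha hb => simp only [map_add, LinearMap.add_apply, add_mul, ha, hb]
          rw [h1, hsplit, map_sum, map_sum, map_sum, LinearMap.sum_apply, map_sum]
          refine Finset.sum_congr rfl fun i _ => ?_
          rw [map_smul, map_smul, map_smul, LinearMap.smul_apply, map_smul, hph', smul_eq_mul, smul_eq_mul, mul_comm]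
        have h2 : ∀ z, LinearMap.lTensor R (actDual (φ ⊗ₜ[A] m)) z =
            D.symm (LinearMap.lTensor R L z ⊗ₜ[R] ((1 : R) ⊗ₜ[A] m)) := by
          intro z
          induction z using TensorProduct.induction_on with
          | zero => simp
          | tmul r b =>
            rw [LinearMap.lTensor_tmul, LinearMap.lTensor_tmul, LinearEquiv.eq_symm_apply, actDual_tmul]
            simp [D, TensorProduct.smul_tmul']
            rfl
          | add a b ha hb => simp only [map_add, TensorProduct.add_tmul, ha, hb]
        rw [h2, hcoeff]
        show _ = D.symm _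
        congr 1
        rw [TensorProduct.sum_tmul]
        refine Finset.sum_congr rfl fun i _ => ?_
        rw [TensorProduct.smul_tmul]
        congr 1
        have h3 : ∀ z : R ⊗[A] B', rd (LinearMap.baseChange R φ z) • ((1 : R) ⊗ₜ[A] m) =
            ((dualTensorHom A B' N) (φ ⊗ₜ[A] m)).baseChange R z := by
          intro z
          induction z using TensorProduct.induction_on with
          | zero => simp
          | tmul r b =>
            rw [LinearMap.baseChange_tmul, LinearMap.baseChange_tmul]
            simp [rd, TensorProduct.smul_tmul', Algebra.smul_def, TensorProduct.tmul_smul, mul_comm]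
          | add a b ha hb => simp only [map_add, add_smul, ha, hb]
        exact h3 (v i)
    rw [key, ht]
    simp [S]
  · let θ := dualTensorHom A B' N
    obtain ⟨u, hu, hu0⟩ := hdesc ((LinearMap.range θ).mkQ ∘ₗ actHom f) (by
      have key : LinearMap.lTensor R (actHom f) e = LinearMap.lTensor R θ (S (f.baseChange R)) := by
        refine gam_injective R (LinearMap.ext fun x => ?_)
        have h2 : ∀ (m : R ⊗[A] Dual A B') (w : R ⊗[A] N),
            gam R (LinearMap.lTensor R θ (D.symm (m ⊗ₜ[R] w))) x = rd (gam R m x) • w := by
          intro m w
          induction m using TensorProduct.induction_on with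
          | zero => simp
          | add a b ha hb => simp only [TensorProduct.add_tmul, map_add, LinearMap.add_apply, add_smul, ha, hb]
          | tmul r φ =>
            induction w using TensorProduct.induction_on with
            | zero => simp
            | add a b ha hb => simp only [TensorProduct.tmul_add, map_add, LinearMap.add_apply, smul_add, ha, hb]
            | tmul s m =>
              have hD : D.symm ((r ⊗ₜ[A] φ) ⊗ₜ[R] (s ⊗ₜ[A] m)) = (r * s) ⊗ₜ[A] (φ ⊗ₜ[A] m) := by
                rw [LinearEquiv.symm_apply_eq]
                simp [D, TensorProduct.smul_tmul']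
                rw [mul_comm r s, ← smul_eq_mul, ← TensorProduct.smul_tmul', TensorProduct.smul_tmul,
                  TensorProduct.smul_tmul', smul_eq_mul, mul_one]
              rw [hD, LinearMap.lTensor_tmul]
              induction x using TensorProduct.induction_on with
              | zero => simp
              | add a b ha hb => simp only [map_add, add_smul, ha, hb]
              | tmul a c =>
                rw [gam_tmul, gam_tmul]
                simp [rd, θ, TensorProduct.smul_tmul', Algebra.smul_def, TensorProduct.tmul_smul, mul_comm, mul_left_comm, mul_assoc]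
        have h1 : ∀ z x', gam R (LinearMap.lTensor R (actHom f) z) x' = f.baseChange R (z * x') := by
          intro z x'
          induction z using TensorProduct.induction_on with
          | zero => simp
          | tmul r b =>
            induction x' using TensorProduct.induction_on with
            | zero => simp
            | tmul s c =>
              rw [LinearMap.lTensor_tmul, gam_tmul, Algebra.TensorProduct.tmul_mul_tmul, LinearMap.baseChange_tmul]
              rfl
            | add a b ha hb => simp only [map_add, mul_add, ha, hb]
          | add a b ha hb => simp only [map_add, LinearMap.add_apply, add_mul, ha, hb]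
        rw [h1, hsplit, map_sum]
        simp only [S, map_sum, LinearMap.sum_apply]
        refine Finset.sum_congr rfl fun i _ => ?_
        rw [map_smul, h2, hph']
      rw [LinearMap.lTensor_comp, LinearMap.comp_apply, key, ← LinearMap.comp_apply, ← LinearMap.lTensor_comp,
        LinearMap.range_mkQ_comp, LinearMap.lTensor_zero, LinearMap.zero_apply])
    obtain ⟨t, ht⟩ := (Submodule.Quotient.mk_eq_zero _).1 hu0
    exact ⟨u, hu, t, ht⟩

end Groth.Agent.OmegaCI
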