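import Groth.Agent.GorLib.Artin
import Groth.Agent.GorLib.RingLevel

/-!
Socles of Artinian rings at maximal ideals and the Gorenstein property.
-/

set_option autoImplicit false

universe u

open IsLocalRing

namespace Groth.Agent.OmegaCI

variable {S : Type u} [CommRing S]

/-- The elements killed by `n` form a principal submodule. -/
def SocPrincipal (n : Ideal S) : Prop :=
  ∃ s : S, (∀ m ∈ n, m * s = 0) ∧ ∀ b : S, (∀ m ∈ n, m * b = 0) → ∃ c, b = c * s

theorem eq_zero_of_mul_eq_zero {n : Ideal S} [n.IsMaximal] {b u : S} (hb : ∀ m ∈ n, m * b = 0)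
    (hu : u ∉ n) (h : u * b = 0) : b = 0 := by
  obtain ⟨v, hv⟩ := Ideal.IsMaximal.exists_inv ‹n.IsMaximal› hu
  obtain ⟨m, hm, hvm⟩ := hv
  calc b = (v * u + m) * b := by rw [hvm, one_mul]
    _ = 0 := by rw [add_mul, mul_assoc, h, mul_zero, hb m hm, add_zero]

theorem isSocle_algebraMap (n : Ideal S) [n.IsPrime] {b : S} (hb : ∀ m ∈ n, m * b = 0) :
    GorLib.IsSocle (algebraMap S (Localization.AtPrime n) b) := by
  intro x hx
  obtain ⟨m, u, rfl⟩ := IsLocalization.exists_mk'_eq n.primeCompl x
  rw [IsLocalization.AtPrime.mk'_mem_maximal_iff _ n] at hx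
  rw [mul_comm, IsLocalization.mul_mk'_eq_mk'_of_mul, mul_comm, hb m hx, IsLocalization.mk'_zero]

theorem socPrincipal_of_gorenstein (n : Ideal S) [n.IsMaximal] [IsArtinianRing S]
    [LocCoh.IsGorensteinLocalRing (Localization.AtPrime n)] : SocPrincipal n := by
  classical
  by_cases h0 : ∀ b : S, (∀ m ∈ n, m * b = 0) → b = 0
  · exact ⟨0, fun m _ => mul_zero m, fun b hb => ⟨0, by rw [h0 b hb, mul_zero]⟩⟩
  push Not at h0
  obtain ⟨a, ha, ha0⟩ := h0
  refine ⟨a, ha, fun b hb => ?_⟩
  have hinj : ∀ c : S, (∀ m ∈ n, m * c = 0) → algebraMap S (Localization.AtPrime n) c = 0 → c = 0 := by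
    intro c hc h
    obtain ⟨u, hu⟩ := (IsLocalization.map_eq_zero_iff n.primeCompl _ c).1 h
    exact eq_zero_of_mul_eq_zero hc u.2 hu
  have hcyc := GorLib.socleCyclic_of_gorenstein (A := Localization.AtPrime n)
  obtain ⟨r, hr⟩ := hcyc _ _ (isSocle_algebraMap n ha) (isSocle_algebraMap n hb)
    (fun h => ha0 (hinj a ha h))
  obtain ⟨x, u, rfl⟩ := IsLocalization.exists_mk'_eq n.primeCompl r
  have h1 : algebraMap S (Localization.AtPrime n) ((u : S) * b - x * a) = 0 := by
    rw [map_sub, map_mul, map_mul, hr, ← mul_assoc, IsLocalization.mk'_spec', sub_self]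
  have h2 : (u : S) * b = x * a := sub_eq_zero.1 (hinj _ (fun m hm => by
    linear_combination (u : S) * hb m hm - x * ha m hm) h1)
  obtain ⟨v, m, hm, hvm⟩ := Ideal.IsMaximal.exists_inv ‹n.IsMaximal› u.2
  exact ⟨v * x, by linear_combination v * h2 + hb m hm - b * hvm⟩

theorem gorenstein_of_socPrincipal [IsArtinianRing S]
    (h : ∀ (n : Ideal S) [n.IsMaximal], SocPrincipal n) : LocCoh.IsGorensteinRing S where
  isGorensteinLocalRing_localization n hn := by
    classical
    haveI : n.IsMaximal := IsArtinianRing.isMaximal_of_isPrime n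
    refine GorLib.gorenstein_of_socleCyclic ?_
    obtain ⟨s, hs, hgen⟩ := h n
    have key : ∀ y : Localization.AtPrime n, GorLib.IsSocle y →
        ∃ t, y = t * algebraMap S (Localization.AtPrime n) s := by
      intro y hy
      obtain ⟨x, u, rfl⟩ := IsLocalization.exists_mk'_eq n.primeCompl y
      obtain ⟨T, hT⟩ := IsNoetherian.noetherian n
      have h1 : ∀ m ∈ T, ∃ w : n.primeCompl, (w : S) * (m * x) = 0 := by
        intro m hm
        refine (IsLocalization.map_eq_zero_iff n.primeCompl (Localization.AtPrime n) _).1 ?_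
        have hmn : m ∈ n := hT ▸ Ideal.subset_span hm
        have := hy (algebraMap S _ m)
          ((IsLocalization.AtPrime.to_map_mem_maximal_iff _ n m).2 hmn)
        rw [IsLocalization.mul_mk'_eq_mk'_of_mul, IsLocalization.mk'_eq_zero_iff] at this
        exact (IsLocalization.map_eq_zero_iff n.primeCompl _ _).2 this
      choose w hw using h1
      let W : n.primeCompl := ∏ m ∈ T.attach, w m.1 m.2
      have hW : ∀ m ∈ n, m * ((W : S) * x) = 0 := by
        intro m hm
        rw [← hT] at hm
        induction hm using Submodule.span_induction with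
        | mem m hm =>
          have : (W : S) = (∏ a ∈ T.attach.erase ⟨m, hm⟩, (w a.1 a.2 : S)) * w m hm := by
            show ((∏ a ∈ T.attach, w a.1 a.2 : n.primeCompl) : S) = _
            rw [Submonoid.coe_finsetProd]
            exact (Finset.prod_erase_mul _ _ (Finset.mem_attach _ _)).symm
          rw [this]
          linear_combination (∏ a ∈ T.attach.erase ⟨m, hm⟩, (w a.1 a.2 : S)) * hw m hm
        | zero => exact zero_mul _
        | add a b _ _ ha hb => rw [add_mul, ha, hb, add_zero]
        | smul r a _ ha => rw [smul_eq_mul, mul_assoc, ha, mul_zero]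
      obtain ⟨c, hc⟩ := hgen _ hW
      refine ⟨IsLocalization.mk' _ c (W * u), ?_⟩
      rw [mul_comm, IsLocalization.mul_mk'_eq_mk'_of_mul, mul_comm, ← hc]
      exact IsLocalization.mk'_eq_iff_eq.2 (congrArg _ (by push_cast; ring))
    intro a b ha hb ha0
    obtain ⟨t, rfl⟩ := key a ha
    obtain ⟨t', rfl⟩ := key b hb
    rcases GorLib.isUnit_or_mem _ t with ht | ht
    · obtain ⟨t, rfl⟩ := ht
      exact ⟨t' * (t⁻¹ : (Localization.AtPrime n)ˣ), by rw [mul_assoc, Units.inv_mul_cancel_left]⟩
    · exact absurd (isSocle_algebraMap n hs t ht) ha0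

end Groth.Agent.OmegaCI
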