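import Groth.Prelude.Def_Disc
import Groth.Agent.OmegaCI.Socle
import Mathlib.RingTheory.PicardGroup
import Mathlib.RingTheory.Nakayama
import Mathlib.LinearAlgebra.Dual.Lemmas

/-!
Invertibility of `Hom_A(B, A)` from the socles of the fibres.
-/

set_option autoImplicit false

universe u v

open Module

namespace Groth.Agent.OmegaCI

section Invertible

variable {R : Type u} [CommRing R] {M : Type v} [AddCommGroup M] [Module R M]

/-- A finite faithful module which is locally cyclic is invertible. -/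
theorem invertible_of_local [IsNoetherianRing R] [Module.Finite R M]
    (hgen : ∀ (n : Ideal R) [n.IsMaximal], ∃ x : M, ∀ y : M, ∃ u ∉ n, ∃ a : R, u • y = a • x)
    (hf : ∀ r : R, (∀ x : M, r • x = 0) → r = 0) : Module.Invertible R M := by
  classical
  have hzero : ∀ {N : Type v} [AddCommGroup N] [Module R N] (z : N),
      (∀ (n : Ideal R) [n.IsMaximal], ∃ u ∉ n, u • z = 0) → z = 0 := by
    intro N _ _ z hz
    let J : Ideal R := LinearMap.ker (LinearMap.toSpanSingleton R N z)
    by_contra h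
    have hJ : J ≠ ⊤ := fun htop => h (by
      have : (1 : R) ∈ J := htop ▸ Submodule.mem_top
      simpa [J] using this)
    obtain ⟨n, hn, hJn⟩ := Ideal.exists_le_maximal J hJ
    obtain ⟨u, hu, hu0⟩ := hz n
    exact hu (hJn (by simpa [J] using hu0))
  have swap : ∀ (f : Dual R M) (x y : M), f x • y = f y • x := by
    intro f x y
    refine sub_eq_zero.1 (hzero _ fun n _ => ?_)
    obtain ⟨x₀, hx₀⟩ := hgen n
    obtain ⟨u, hu, a, ha⟩ := hx₀ x
    obtain ⟨v, hv, b, hb⟩ := hx₀ y
    refine ⟨u * v, fun h => (Ideal.IsPrime.mem_or_mem (Ideal.IsMaximal.isPrime ‹_›) h).elim hu hv, ?_⟩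
    have e1 : (u * v) • (f x • y) = (f (u • x)) • (v • y) := by
      rw [map_smul, smul_eq_mul, smul_smul, smul_smul]; ring_nf
    have e2 : (u * v) • (f y • x) = (f (v • y)) • (u • x) := by
      rw [map_smul, smul_eq_mul, smul_smul, smul_smul]; ring_nf
    rw [smul_sub, e1, e2, ha, hb, map_smul, map_smul, smul_eq_mul, smul_eq_mul, smul_smul, smul_smul]
    rw [mul_right_comm, sub_eq_zero]; ring_nf
  let J : Ideal R := Ideal.span {r | ∃ (f : Dual R M) (y : M), f y = r}
  have hJ : J = ⊤ := by
    by_contra h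
    obtain ⟨n, hn, hJn⟩ := Ideal.exists_le_maximal J h
    obtain ⟨x₀, hx₀⟩ := hgen n
    obtain ⟨T, hT⟩ := Module.Finite.fg_top (R := R) (M := M)
    choose u hu a ha using hx₀
    let g := ∏ y ∈ T, u y
    have hprod : ∀ (s : Finset M), (∏ y ∈ s, u y) ∉ n := fun s h => by
      obtain ⟨y, -, hy⟩ := (Ideal.IsPrime.prod_mem_iff (hp := hn.isPrime)).1 h
      exact hu y hy
    have hg : ∀ y : M, ∃ b : R, g • y = b • x₀ := by
      intro y
      induction (hT ▸ Submodule.mem_top : y ∈ Submodule.span R (T : Set M)) using Submodule.span_induction with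
      | mem y hy =>
        refine ⟨(∏ z ∈ T.erase y, u z) * a y, ?_⟩
        rw [mul_smul, ← ha, ← mul_smul, Finset.prod_erase_mul _ _ hy]
      | zero => exact ⟨0, by simp⟩
      | add x y _ _ hx hy =>
        obtain ⟨b, hb⟩ := hx
        obtain ⟨c, hc⟩ := hy
        exact ⟨b + c, by rw [smul_add, hb, hc, add_smul]⟩
      | smul r x _ hx =>
        obtain ⟨b, hb⟩ := hx
        exact ⟨r * b, by rw [smul_comm, hb, mul_smul]⟩
    let Ann : Ideal R := LinearMap.ker (LinearMap.toSpanSingleton R M x₀)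
    obtain ⟨S, hS⟩ := IsNoetherian.noetherian Ann
    have hkill : ∀ r ∈ Ann, g * r = 0 := fun r hr => hf _ fun y => by
      obtain ⟨b, hb⟩ := hg y
      rw [mul_comm, mul_smul, hb, smul_comm, show r • x₀ = 0 from hr, smul_zero]
    choose b hb using hg
    let f : Dual R M :=
      { toFun := fun y => g * b y
        map_add' := fun x y => by
          rw [← sub_eq_zero, ← mul_add, ← mul_sub]
          refine hkill _ ?_
          show (b (x + y) - (b x + b y)) • x₀ = 0
          rw [sub_smul, add_smul, ← hb, ← hb, ← hb, smul_add, sub_self]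
        map_smul' := fun r y => by
          rw [RingHom.id_apply, smul_eq_mul, ← sub_eq_zero, mul_left_comm r g, ← mul_sub]
          refine hkill _ ?_
          show (b (r • y) - r * b y) • x₀ = 0
          rw [sub_smul, mul_smul, ← hb, ← hb, smul_comm, sub_self] }
    have hgg : g * g = g * b x₀ := by
      rw [← sub_eq_zero, ← mul_sub]
      refine hkill _ ?_
      show (g - b x₀) • x₀ = 0
      rw [sub_smul, hb x₀, sub_self]
    have h2 : g * g ∈ n := hgg ▸ hJn (Ideal.subset_span ⟨f, x₀, rfl⟩)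
    exact hprod T ((hn.isPrime.mem_or_mem h2).elim id id)
  have hsurj : Function.Surjective (contractLeft R M) := by
    rw [← LinearMap.range_eq_top, eq_top_iff]
    show (⊤ : Ideal R) ≤ _
    rw [← hJ]
    refine Ideal.span_le.2 ?_
    rintro r ⟨f, y, rfl⟩
    exact ⟨f ⊗ₜ y, contractLeft_apply f y⟩
  refine ⟨⟨?_, hsurj⟩⟩
  rw [injective_iff_map_eq_zero]
  intro t ht
  obtain ⟨w, hw⟩ := hsurj 1
  obtain ⟨T, rfl⟩ := TensorProduct.exists_finset t
  obtain ⟨W, rfl⟩ := TensorProduct.exists_finset w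
  simp only [map_sum, contractLeft_apply] at ht hw
  calc ∑ j ∈ T, j.1 ⊗ₜ[R] j.2
      = ∑ j ∈ T, ∑ i ∈ W, (i.1 j.2 • j.1) ⊗ₜ[R] i.2 := by
        refine Finset.sum_congr rfl fun j _ => ?_
        conv_lhs => rw [← one_smul R j.2, ← hw, Finset.sum_smul, TensorProduct.tmul_sum]
        exact Finset.sum_congr rfl fun i _ => by rw [swap i.1 i.2 j.2, ← TensorProduct.smul_tmul]
    _ = ∑ i ∈ W, (∑ j ∈ T, i.1 j.2 • j.1) ⊗ₜ[R] i.2 := by
        rw [Finset.sum_comm]; simp [TensorProduct.sum_tmul]
    _ = 0 := by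
        refine Finset.sum_eq_zero fun i _ => ?_
        rw [show (∑ j ∈ T, i.1 j.2 • j.1) = 0 from LinearMap.ext fun z => ?_, TensorProduct.zero_tmul]
        simp only [LinearMap.sum_apply, LinearMap.smul_apply, LinearMap.zero_apply, smul_eq_mul]
        calc ∑ j ∈ T, i.1 j.2 * j.1 z = ∑ j ∈ T, j.1 j.2 * i.1 z := by
              refine Finset.sum_congr rfl fun j _ => ?_
              have := congrArg i.1 (swap j.1 j.2 z)
              simp only [map_smul, smul_eq_mul] at this
              rw [this, mul_comm]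
          _ = 0 := by rw [← Finset.sum_mul, ht, zero_mul]

/-- Nakayama: a generator modulo `n` generates after inverting an element outside `n`. -/
theorem exists_smul_mem_of_generates [Module.Finite R M] (n : Ideal R) [n.IsPrime] (x : M)
    (h : ∀ y : M, y ∈ Submodule.span R {x} ⊔ n • (⊤ : Submodule R M)) (y : M) :
    ∃ u ∉ n, ∃ a : R, u • y = a • x := by
  let N := Submodule.span R {x}
  have htop : (⊤ : Submodule R (M ⧸ N)) ≤ n • (⊤ : Submodule R (M ⧸ N)) := by
    rintro q -
    obtain ⟨y, rfl⟩ := N.mkQ_surjective q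
    obtain ⟨p, hp, z, hz, rfl⟩ := Submodule.mem_sup.1 (h y)
    rw [map_add, show N.mkQ p = 0 from (Submodule.Quotient.mk_eq_zero N).2 hp, zero_add]
    have := Submodule.mem_map_of_mem (f := N.mkQ) hz
    rw [Submodule.map_smul''] at this
    exact Submodule.smul_mono le_rfl le_top this
  obtain ⟨r, hr1, hr⟩ := Submodule.exists_sub_one_mem_and_smul_eq_zero_of_fg_of_le_smul n ⊤
    Module.Finite.fg_top htop
  refine ⟨r, fun hr2 => ‹n.IsPrime›.ne_top ((Ideal.eq_top_iff_one _).2 ?_), ?_⟩
  · simpa using n.sub_mem hr2 hr1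
  have : N.mkQ (r • y) = 0 := by rw [map_smul]; exact hr _ trivial
  obtain ⟨a, ha⟩ := Submodule.mem_span_singleton.1 ((Submodule.Quotient.mk_eq_zero N).1 this)
  exact ⟨a, ha.symm⟩

end Invertible

section Omega

variable {A : Type u} {B : Type v} [CommRing A] [CommRing B] [Algebra A B]

theorem omega_sum_apply {ι : Type*} (s : Finset ι) (F : ι → Disc.Omega A B) (x : B) :
    (∑ j ∈ s, F j).toLinearMap x = ∑ j ∈ s, (F j).toLinearMap x :=
  map_sum (AddMonoidHom.mk' (fun ψ : Disc.Omega A B => ψ.toLinearMap x) fun _ _ => rfl) F s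

theorem omega_algebraMap_smul (a : A) (φ : Disc.Omega A B) (x : B) :
    (algebraMap A B a • φ).toLinearMap x = a * φ.toLinearMap x := by
  show φ.toLinearMap (algebraMap A B a * x) = _
  rw [← Algebra.smul_def, map_smul, smul_eq_mul]

variable [Module.Finite A B] [Module.Projective A B]

theorem finite_omega : Module.Finite B (Disc.Omega A B) := by
  classical
  obtain ⟨T, hT⟩ := Module.Finite.fg_top (R := A) (M := Dual A B)
  refine ⟨⟨T.image fun f => (⟨f⟩ : Disc.Omega A B), eq_top_iff.2 fun φ _ => ?_⟩⟩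
  obtain ⟨c, hc⟩ := Submodule.mem_span_finset.1 (hT ▸ Submodule.mem_top : φ.toLinearMap ∈ Submodule.span A (T : Set (Dual A B)))
  have : φ = ∑ f ∈ T, algebraMap A B (c f) • (⟨f⟩ : Disc.Omega A B) := by
    apply Disc.Omega.ext
    refine LinearMap.ext fun x => ?_
    rw [omega_sum_apply, ← hc.2]
    simp only [omega_algebraMap_smul, LinearMap.sum_apply, LinearMap.smul_apply, smul_eq_mul]
  rw [this]
  exact Submodule.sum_mem _ fun f hf => Submodule.smul_mem _ _
    (Submodule.subset_span (Finset.mem_image_of_mem _ hf))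

theorem omega_faithful (b : B) (h : ∀ φ : Disc.Omega A B, b • φ = 0) : b = 0 := by
  refine (Module.forall_dual_apply_eq_zero_iff A b).1 fun f => ?_
  have := congrArg (fun ψ : Disc.Omega A B => ψ.toLinearMap 1) (h ⟨f⟩)
  simpa using this

/-- At a maximal ideal with principal fibre socle the dualizing module is locally cyclic. -/
theorem omega_local_gen (n : Ideal B) [n.IsMaximal] (p : Ideal A) [p.IsMaximal] (hp : p.map (algebraMap A B) ≤ n)
    (h : SocPrincipal (n.map (Ideal.Quotient.mk (p.map (algebraMap A B))))) :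
    ∃ φ : Disc.Omega A B, ∀ ψ : Disc.Omega A B,
      ψ ∈ Submodule.span B {φ} ⊔ n • (⊤ : Submodule B (Disc.Omega A B)) := by
  classical
  letI : Field (A ⧸ p) := Ideal.Quotient.field p
  let P := p.map (algebraMap A B)
  let S := B ⧸ P
  haveI : Module.Finite (A ⧸ p) S := Module.Finite.of_restrictScalars_finite A _ _
  obtain ⟨s₀, hs₀, hgen⟩ := h
  obtain ⟨s, rfl⟩ := Ideal.Quotient.mk_surjective s₀
  -- reduction of forms
  have hker : ∀ (f : Dual A B) (x : B), x ∈ P → f x ∈ p := by
    intro f x hx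
    induction hx using Submodule.span_induction generalizing f with
    | mem x hx =>
      obtain ⟨a, ha, rfl⟩ := hx
      rw [Algebra.algebraMap_eq_smul_one, map_smul, smul_eq_mul]
      exact p.mul_mem_right _ ha
    | zero => simp
    | add x y _ _ hx hy => rw [map_add]; exact p.add_mem (hx f) (hy f)
    | smul r x _ hx => exact hx (f ∘ₗ LinearMap.mulLeft A r)
  have exφ : ∃ φ : Disc.Omega A B, s ∉ P → φ.toLinearMap s ∉ p := by
    by_cases hs : s ∈ P
    · exact ⟨0, fun h => absurd hs h⟩
    obtain ⟨f, hf⟩ := not_forall.1 ((not_congr (Module.forall_dual_apply_eq_zero_iff (A ⧸ p)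
      (Ideal.Quotient.mk P s : S))).2 fun h0 => hs (Ideal.Quotient.eq_zero_iff_mem.1 h0))
    obtain ⟨g, hg⟩ := Module.projective_lifting_property (Algebra.linearMap A (A ⧸ p))
      ((f.restrictScalars A) ∘ₗ (Ideal.Quotient.mkₐ A P).toLinearMap) Ideal.Quotient.mk_surjective
    refine ⟨⟨g⟩, fun _ hmem => hf ?_⟩
    have := LinearMap.congr_fun hg s
    simp only [LinearMap.comp_apply] at this
    exact this.symm.trans (Ideal.Quotient.eq_zero_iff_mem.2 hmem)
  obtain ⟨φ, hφ⟩ := exφ
  refine ⟨φ, fun ψ => ?_⟩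
  let W : Submodule B (Disc.Omega A B) := Submodule.span B {φ} ⊔ n • ⊤
  -- the reduction map
  let red : Disc.Omega A B → Dual (A ⧸ p) S := fun χ =>
    { toFun := fun z => Quotient.liftOn' z (fun x => Ideal.Quotient.mk p (χ.toLinearMap x)) fun x y hxy => by
        rw [Ideal.Quotient.eq, ← map_sub]
        exact hker _ _ ((Submodule.quotientRel_def P).1 hxy)
      map_add' := fun x y => by
        obtain ⟨x, rfl⟩ := Ideal.Quotient.mk_surjective x
        obtain ⟨y, rfl⟩ := Ideal.Quotient.mk_surjective y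
        exact (congrArg (Ideal.Quotient.mk p) (map_add χ.toLinearMap x y)).trans (map_add _ _ _)
      map_smul' := fun c x => by
        obtain ⟨x, rfl⟩ := Ideal.Quotient.mk_surjective x
        obtain ⟨c, rfl⟩ := Ideal.Quotient.mk_surjective c
        exact (congrArg (Ideal.Quotient.mk p) (map_smul χ.toLinearMap c x)).trans (map_mul _ _ _) }
  have hred : ∀ χ x, red χ (Ideal.Quotient.mk P x) = Ideal.Quotient.mk p (χ.toLinearMap x) := fun _ _ => rfl
  let U : Submodule (A ⧸ p) (Dual (A ⧸ p) S) :=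
    { carrier := red '' (W : Set (Disc.Omega A B))
      zero_mem' := ⟨0, W.zero_mem, LinearMap.ext fun z => by
        obtain ⟨z, rfl⟩ := Ideal.Quotient.mk_surjective z
        rw [hred]; simp⟩
      add_mem' := by
        rintro _ _ ⟨x, hx, rfl⟩ ⟨y, hy, rfl⟩
        refine ⟨x + y, W.add_mem hx hy, LinearMap.ext fun z => ?_⟩
        obtain ⟨z, rfl⟩ := Ideal.Quotient.mk_surjective z
        rw [LinearMap.add_apply, hred, hred, hred, ← map_add]; rfl
      smul_mem' := by
        rintro c _ ⟨x, hx, rfl⟩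
        obtain ⟨c, rfl⟩ := Ideal.Quotient.mk_surjective c
        refine ⟨algebraMap A B c • x, W.smul_mem _ hx, LinearMap.ext fun z => ?_⟩
        obtain ⟨z, rfl⟩ := Ideal.Quotient.mk_surjective z
        rw [LinearMap.smul_apply, hred, hred, omega_algebraMap_smul, map_mul, smul_eq_mul] }
  have hU : U = ⊤ := by
    rw [← Subspace.dualCoannihilator_dualAnnihilator_eq (W := U)]
    suffices h0 : U.dualCoannihilator = ⊥ by rw [h0, Submodule.dualAnnihilator_bot]
    rw [eq_bot_iff]
    intro z hz
    rw [Submodule.mem_dualCoannihilator] at hz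
    obtain ⟨b, rfl⟩ := Ideal.Quotient.mk_surjective z
    have hb : ∀ χ ∈ W, χ.toLinearMap b ∈ p := fun χ hχ => by
      have := hz _ ⟨χ, hχ, rfl⟩
      rwa [hred, Ideal.Quotient.eq_zero_iff_mem] at this
    have hsoc : ∀ m₀ ∈ n.map (Ideal.Quotient.mk P), m₀ * Ideal.Quotient.mk P b = 0 := by
      intro m₀ hm
      obtain ⟨m, hm', rfl⟩ := (Ideal.mem_map_iff_of_surjective _ Ideal.Quotient.mk_surjective).1 hm
      refine (Module.forall_dual_apply_eq_zero_iff (A ⧸ p) _).1 fun f => ?_
      obtain ⟨g, hg⟩ := Module.projective_lifting_property (Algebra.linearMap A (A ⧸ p))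
        ((f.restrictScalars A) ∘ₗ (Ideal.Quotient.mkₐ A P).toLinearMap) Ideal.Quotient.mk_surjective
      have h1 := hb (m • ⟨g⟩) (Submodule.mem_sup_right (Submodule.smul_mem_smul hm' trivial))
      rw [← map_mul]
      exact (LinearMap.congr_fun hg (m * b)).symm.trans (Ideal.Quotient.eq_zero_iff_mem.2 h1)
    obtain ⟨c₀, hc₀⟩ := hgen _ hsoc
    obtain ⟨c, rfl⟩ := Ideal.Quotient.mk_surjective c₀
    rw [Submodule.mem_bot]
    by_contra hne
    have hc : c ∉ n := fun hc => hne (by rw [hc₀]; exact hs₀ _ (Ideal.mem_map_of_mem _ hc))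
    obtain ⟨d, m, hm, hdm⟩ := Ideal.IsMaximal.exists_inv ‹n.IsMaximal› hc
    have hsP : s ∉ P := fun hs => hne (by rw [hc₀, Ideal.Quotient.eq_zero_iff_mem.2 hs, mul_zero])
    refine hφ hsP ?_
    have h1 := hb (d • φ) (Submodule.mem_sup_left (Submodule.smul_mem _ _ (Submodule.mem_span_singleton_self φ)))
    have h2 : s - d * b ∈ P := by
      rw [← Ideal.Quotient.eq_zero_iff_mem, map_sub, map_mul, hc₀, sub_eq_zero]
      have h3 := hs₀ _ (Ideal.mem_map_of_mem _ hm)
      have h4 := congrArg (Ideal.Quotient.mk P) hdm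
      rw [map_add, map_mul, map_one] at h4
      linear_combination h3 - Ideal.Quotient.mk P s * h4
    have h5 := hker φ.toLinearMap _ h2
    rw [map_sub] at h5
    have := p.add_mem h5 h1
    rwa [Disc.Omega.smul_toLinearMap_apply, sub_add_cancel] at this
  obtain ⟨χ, hχ, hχψ⟩ := (hU ▸ Submodule.mem_top : red ψ ∈ U)
  -- forms with values in `p` lie in `n • ω`
  obtain ⟨l, g, x, hx⟩ : ∃ (l : ℕ) (g : Fin l → Dual A B) (x : Fin l → B), ∀ b : B, ∑ i, g i b • x i = b := by
    obtain ⟨l, π, hπ⟩ := Module.Finite.exists_fin' A B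
    obtain ⟨sec, hsec⟩ := Module.projective_lifting_property π LinearMap.id hπ
    refine ⟨l, fun i => (LinearMap.proj i) ∘ₗ sec, fun i => π (Pi.single i 1), fun b => ?_⟩
    have h1 := LinearMap.congr_fun hsec b
    simp only [LinearMap.comp_apply, LinearMap.id_apply, LinearMap.proj_apply] at h1 ⊢
    conv_rhs => rw [← h1, pi_eq_sum_univ' (sec b), map_sum]
    simp only [map_smul]
  have hdiff : ψ - χ ∈ n • (⊤ : Submodule B (Disc.Omega A B)) := by
    have heq : ψ - χ = ∑ i, algebraMap A B ((ψ - χ).toLinearMap (x i)) • (⟨g i⟩ : Disc.Omega A B) := by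
      apply Disc.Omega.ext
      refine LinearMap.ext fun b => ?_
      rw [omega_sum_apply]
      conv_lhs => rw [← hx b, map_sum]
      exact Finset.sum_congr rfl fun i _ => by
        rw [map_smul, omega_algebraMap_smul, smul_eq_mul, mul_comm]
    rw [heq]
    refine Submodule.sum_mem _ fun i _ => Submodule.smul_mem_smul (hp (Ideal.mem_map_of_mem _ ?_)) trivial
    have := LinearMap.congr_fun hχψ (Ideal.Quotient.mk P (x i))
    rw [hred, hred, Ideal.Quotient.eq] at this
    have h6 : (ψ - χ).toLinearMap (x i) = ψ.toLinearMap (x i) - χ.toLinearMap (x i) := rfl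
    rw [h6, ← neg_sub]
    exact p.neg_mem this
  have h7 : ψ = χ + (ψ - χ) := (add_sub_cancel _ _).symm
  rw [h7]
  exact W.add_mem hχ (Submodule.mem_sup_right hdiff)

/-- Finite projective case: principal fibre socles give an invertible dualizing module. -/
theorem invertible_omega_of_socle [IsNoetherianRing B]
    (h : ∀ (n : Ideal B) [n.IsMaximal], SocPrincipal
      (n.map (Ideal.Quotient.mk ((n.comap (algebraMap A B)).map (algebraMap A B))))) :
    Module.Invertible B (Disc.Omega A B) := by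
  haveI := finite_omega (A := A) (B := B)
  refine invertible_of_local (fun n _ => ?_) fun b hb => omega_faithful b hb
  haveI : (n.comap (algebraMap A B)).IsMaximal := Ideal.isMaximal_comap_of_isIntegral_of_isMaximal n
  obtain ⟨φ, hφ⟩ := omega_local_gen n (n.comap (algebraMap A B)) Ideal.map_comap_le (h n)
  exact ⟨φ, exists_smul_mem_of_generates n φ hφ⟩

end Omega

end Groth.Agent.OmegaCI
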