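import Groth.Prelude.Def_QFDual
import Groth.Agent.OmegaCI.Coeff
import Groth.Agent.OmegaCI.Local
import Groth.Agent.OmegaCI.Finite
import Mathlib.RingTheory.Localization.BaseChange
import Mathlib.RingTheory.Flat.Stability

/-!
Properties of `B ⊗_{B'} Hom_A(B', A)` read off from forms with coefficients.
-/

set_option autoImplicit false
set_option linter.style.haveILetI false

universe u

open TensorProduct Module

namespace Groth.Agent.OmegaCI

variable {A B' B : Type u} [CommRing A] [CommRing B'] [CommRing B] [Algebra A B']
  [Algebra B' B] [Algebra A B] [IsScalarTower A B' B]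

/-- Where `B'` and `B` agree, `B'` is flat if `B` is. -/
theorem flat_atPrime_of_awayMap [Module.Flat A B]
    (g : B') (hbij : Function.Bijective (Localization.awayMap (algebraMap B' B) g))
    (q' : Ideal B') [q'.IsPrime] (hg : g ∉ q') : Module.Flat A (Localization.AtPrime q') := by
  let Bg' := Localization.Away g
  let Bg := Localization.Away (algebraMap B' B g)
  let ψ : Bg' →ₐ[A] Bg :=
    { Localization.awayMap (algebraMap B' B) g with
      commutes' := fun a => by
        show Localization.awayMap (algebraMap B' B) g (algebraMap A Bg' a) = algebraMap A Bg a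
        rw [IsScalarTower.algebraMap_apply A B' Bg', IsScalarTower.algebraMap_apply A B Bg,
          Localization.awayMap, IsLocalization.Away.map, IsLocalization.map_eq,
          ← IsScalarTower.algebraMap_apply A B' B] }
  let e : Bg' ≃ₐ[A] Bg := AlgEquiv.ofBijective ψ hbij
  haveI : Module.Flat A Bg := Module.Flat.trans A B Bg
  haveI : Module.Flat A Bg' := Module.Flat.of_linearEquiv e.toLinearEquiv
  have hle : Submonoid.powers g ≤ q'.primeCompl := by
    rw [Submonoid.powers_le]; exact hg
  letI : Algebra Bg' (Localization.AtPrime q') :=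
    (IsLocalization.lift (M := Submonoid.powers g) (g := algebraMap B' (Localization.AtPrime q'))
      fun s => IsLocalization.map_units (Localization.AtPrime q') (⟨s.1, hle s.2⟩ : q'.primeCompl)).toAlgebra
  haveI : IsScalarTower B' Bg' (Localization.AtPrime q') := IsScalarTower.of_algebraMap_eq fun x => by
    rw [RingHom.algebraMap_toAlgebra, IsLocalization.lift_eq]
  haveI : IsScalarTower A Bg' (Localization.AtPrime q') := IsScalarTower.of_algebraMap_eq fun x => by
    rw [IsScalarTower.algebraMap_apply A B' (Localization.AtPrime q'),
      IsScalarTower.algebraMap_apply B' Bg' (Localization.AtPrime q'),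
      ← IsScalarTower.algebraMap_apply A B' Bg']
  haveI := IsLocalization.isLocalization_of_submonoid_le Bg' (Localization.AtPrime q') (Submonoid.powers g)
    q'.primeCompl hle
  haveI : Module.Flat Bg' (Localization.AtPrime q') :=
    IsLocalization.flat (Localization.AtPrime q') (q'.primeCompl.map (algebraMap B' Bg'))
  exact Module.Flat.trans A Bg' (Localization.AtPrime q')

/-- Flatness of the dualizing module. -/
theorem flat_omega [IsNoetherianRing A] [Module.Finite A B'] [Module.Flat A B]
    (hopen : AlgebraicGeometry.IsOpenImmersion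
      (AlgebraicGeometry.Spec.map (CommRingCat.ofHom (algebraMap B' B)))) :
    Module.Flat A (B ⊗[B'] Disc.Omega A B') := by
  classical
  letI : Module A (Disc.Omega A B') := Module.compHom _ (algebraMap A B')
  haveI : IsScalarTower A B' (Disc.Omega A B') := IsScalarTower.of_algebraMap_smul fun _ _ => rfl
  let L : Disc.Omega A B' ≃ₗ[A] Dual A B' :=
    { toFun := fun φ => φ.toLinearMap
      invFun := fun f => ⟨f⟩
      map_add' := fun _ _ => rfl
      map_smul' := fun a φ => by
        refine LinearMap.ext fun x => ?_
        show φ.toLinearMap (algebraMap A B' a * x) = a • φ.toLinearMap x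
        rw [← Algebra.smul_def, map_smul]
      left_inv := fun _ => rfl
      right_inv := fun _ => rfl }
  rw [Module.Flat.iff_lTensor_preserves_injective_linearMap]
  intro N N' _ _ _ _ j hj
  rw [injective_iff_map_eq_zero]
  intro z hz
  let J : Disc.Omega A B' ⊗[A] N →ₗ[B'] Disc.Omega A B' ⊗[A] N' :=
    TensorProduct.AlgebraTensorModule.map LinearMap.id j
  let E := TensorProduct.AlgebraTensorModule.assoc A B' B B (Disc.Omega A B') N
  let E' := TensorProduct.AlgebraTensorModule.assoc A B' B B (Disc.Omega A B') N'
  have hnat : ∀ z, J.baseChange B (E z) = E' (LinearMap.lTensor (B ⊗[B'] Disc.Omega A B') j z) := by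
    intro z
    induction z using TensorProduct.induction_on with
    | zero => simp
    | add a b ha hb => simp only [map_add, ha, hb]
    | tmul y m =>
      induction y using TensorProduct.induction_on with
      | zero => simp [TensorProduct.zero_tmul]
      | add a b ha hb => simp only [TensorProduct.add_tmul, map_add, ha, hb]
      | tmul b φ => simp [E, E', J]
  apply E.injective
  rw [map_zero]
  by_contra hne
  obtain ⟨q, hq, hle⟩ := Ideal.exists_le_maximal (LinearMap.ker (LinearMap.toSpanSingleton B _ (E z)))
    (fun h => hne (by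
      have := h.symm ▸ Submodule.mem_top (x := (1 : B))
      simpa using this))
  obtain ⟨g, hg, hiso, hbij⟩ := exists_awayIso hopen q
  obtain ⟨k, x, hx⟩ := hiso.exists_pow_mul_eq_tmul (E z)
  have h1 : (1 : B) ⊗ₜ[B'] J x = 0 := by
    have := congrArg (J.baseChange B) hx
    rw [map_smul, hnat, hz, map_zero, smul_zero, LinearMap.baseChange_tmul] at this
    exact this.symm
  obtain ⟨l, hl⟩ := hiso.exists_pow_smul_eq_zero (J x) h1
  rw [← map_smul] at hl
  let ε : Disc.Omega A B' ⊗[A] N ≃ₗ[A] Dual A B' ⊗[A] N := LinearEquiv.rTensor N L
  have hε : ∀ (t : Disc.Omega A B' ⊗[A] N) (u : B'), ε (u • t) = actDual (ε t) u := by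
    intro t u
    induction t using TensorProduct.induction_on with
    | zero => simp [actDual]
    | add a b ha hb => simp only [smul_add, map_add, ha, hb]; simp [actDual]
    | tmul φ m =>
      rw [TensorProduct.smul_tmul']
      simp only [ε, LinearEquiv.rTensor_tmul, actDual_tmul]
      rfl
  have hθ : ∀ t : Disc.Omega A B' ⊗[A] N,
      dualTensorHom A B' N' (LinearEquiv.rTensor N' L (J t)) = j ∘ₗ dualTensorHom A B' N (ε t) := by
    intro t
    induction t using TensorProduct.induction_on with
    | zero => simp
    | add a b ha hb => simp only [map_add, ha, hb, LinearMap.comp_add]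
    | tmul φ m => ext y; simp [ε, J]
  have h2 : dualTensorHom A B' N (ε (g ^ l • x)) = 0 := by
    refine LinearMap.ext fun y => hj ?_
    have := hθ (g ^ l • x)
    rw [hl, map_zero, map_zero] at this
    rw [LinearMap.zero_apply, map_zero]
    exact (DFunLike.congr_fun this y).symm
  have hflat : Module.Flat A (Localization.AtPrime (q.comap (algebraMap B' B))) :=
    flat_atPrime_of_awayMap g hbij _ hg
  obtain ⟨v, hv, hv0⟩ := (coeff_local A B' (q.comap (algebraMap B' B)) hflat).1 _ h2
  rw [← hε, LinearEquiv.map_eq_zero_iff] at hv0
  have h3 : (algebraMap B' B v * algebraMap B' B g ^ l * algebraMap B' B g ^ k) • E z = 0 := by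
    rw [mul_smul, hx, ← map_pow, ← map_mul, TensorProduct.smul_tmul', smul_eq_mul, mul_one,
      Algebra.algebraMap_eq_smul_one, TensorProduct.smul_tmul, mul_smul, hv0, TensorProduct.tmul_zero]
  exact (Ideal.IsPrime.mul_notMem hq.isPrime (Ideal.IsPrime.mul_notMem hq.isPrime hv
    fun h => hg (hq.isPrime.mem_of_pow_mem l h)) fun h => hg (hq.isPrime.mem_of_pow_mem k h)) (hle (by
      simpa using h3))

end Groth.Agent.OmegaCI
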