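import Groth.Prelude.Def_QFDual
import Groth.Agent.OmegaCI.Coherent

/-!
Base change of the dualizing module of a flat quasi-finite algebra.
-/

set_option autoImplicit false
set_option linter.style.haveILetI false

universe u

open TensorProduct Module

namespace Groth.Agent.OmegaCI

variable {A B' A₁ B'₁ : Type u} [CommRing A] [CommRing B'] [CommRing A₁] [CommRing B'₁]
  [Algebra A B'] [Algebra A A₁] [Algebra B' B'₁] [Algebra A₁ B'₁]
  [Algebra A B'₁] [IsScalarTower A A₁ B'₁] [IsScalarTower A B' B'₁]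

/-- `bcFin` extends to a linear map out of the scalar extension, for every base change. -/
noncomputable def bcLift (h : Algebra.IsPushout A A₁ B' B'₁) :
    B'₁ ⊗[B'] Disc.Omega A B' →ₗ[B'₁] Disc.Omega A₁ B'₁ :=
  letI := Module.compHom (Disc.Omega A₁ B'₁) (algebraMap B' B'₁)
  haveI : IsScalarTower B' B'₁ (Disc.Omega A₁ B'₁) := IsScalarTower.of_algebraMap_smul fun _ _ => rfl
  LinearMap.liftBaseChange B'₁
    { toFun := QFDual.bcFin h
      map_add' := map_add (QFDual.bcFin h)
      map_smul' := fun c φ => (QFDual.bcFin h).map_smulₛₗ c φ }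

theorem bcLift_tmul (h : Algebra.IsPushout A A₁ B' B'₁) (b : B'₁) (φ : Disc.Omega A B') :
    bcLift h (b ⊗ₜ φ) = b • QFDual.bcFin h φ := rfl

/-- `bcLift` is bijective up to elements prime to `q'`, at flat points. -/
theorem bcLift_local [IsNoetherianRing A] [Module.Finite A B'] (h : Algebra.IsPushout A A₁ B' B'₁)
    (q' : Ideal B') [q'.IsPrime] (hflat : Module.Flat A (Localization.AtPrime q')) :
    (∀ m, bcLift h m = 0 → ∃ u ∉ q', algebraMap B' B'₁ u • m = 0) ∧
      ∀ ω, ∃ u ∉ q', ∃ m, bcLift h m = algebraMap B' B'₁ u • ω := by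
  classical
  let M := B'₁ ⊗[B'] Disc.Omega A B'
  let res : Disc.Omega A₁ B'₁ → (B' →ₗ[A] A₁) :=
    fun ω => (ω.toLinearMap.restrictScalars A) ∘ₗ (IsScalarTower.toAlgHom A B' B'₁).toLinearMap
  have hres : ∀ ω ω', res ω = res ω' → ω = ω' := fun ω ω' hh => by
    apply Disc.Omega.ext
    exact h.out.algHom_ext _ _ fun x => DFunLike.congr_fun hh x
  let pre : Dual A B' ⊗[A] A₁ →+ M :=
    TensorProduct.liftAddHom
      (AddMonoidHom.mk' (fun f => AddMonoidHom.mk'
          (fun r => algebraMap A₁ B'₁ r ⊗ₜ[B'] (⟨f⟩ : Disc.Omega A B')) fun r s =>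
            (congrArg (· ⊗ₜ[B'] (⟨f⟩ : Disc.Omega A B')) (map_add _ r s)).trans (TensorProduct.add_tmul _ _ _))
        fun f g => by
          ext r : 1
          show algebraMap A₁ B'₁ r ⊗ₜ[B'] (⟨f + g⟩ : Disc.Omega A B') = _
          exact TensorProduct.tmul_add (algebraMap A₁ B'₁ r) (⟨f⟩ : Disc.Omega A B') ⟨g⟩)
      fun a f r => by
        show algebraMap A₁ B'₁ r ⊗ₜ[B'] (⟨a • f⟩ : Disc.Omega A B') =
          algebraMap A₁ B'₁ (a • r) ⊗ₜ[B'] (⟨f⟩ : Disc.Omega A B')
        have e1 : (⟨a • f⟩ : Disc.Omega A B') = algebraMap A B' a • (⟨f⟩ : Disc.Omega A B') := by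
          apply Disc.Omega.ext
          refine LinearMap.ext fun y => ?_
          show a * f y = f (algebraMap A B' a * y)
          rw [← Algebra.smul_def, map_smul, smul_eq_mul]
        rw [e1, ← TensorProduct.smul_tmul]
        congr 1
        rw [Algebra.smul_def a r, map_mul, ← IsScalarTower.algebraMap_apply, Algebra.smul_def,
          ← IsScalarTower.algebraMap_apply]
  have hcomp : ∀ t, res (bcLift h (pre t)) = dualTensorHom A B' A₁ t := by
    intro t
    induction t using TensorProduct.induction_on with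
    | zero => rw [map_zero, map_zero, map_zero]; rfl
    | tmul f r =>
      refine LinearMap.ext fun x => ?_
      show (algebraMap A₁ B'₁ r • QFDual.bcFin h (⟨f⟩ : Disc.Omega A B')).toLinearMap (algebraMap B' B'₁ x) =
        f x • r
      rw [Disc.Omega.smul_toLinearMap_apply, ← Algebra.smul_def, map_smul, QFDual.bcFin_apply_algebraMap,
        smul_eq_mul, Algebra.smul_def, mul_comm]
    | add a b ha hb =>
      rw [map_add, map_add, map_add, ← ha, ← hb]
      rfl
  have hact : ∀ t u, pre (actDual t u) = algebraMap B' B'₁ u • pre t := by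
    intro t u
    induction t using TensorProduct.induction_on with
    | zero => simp [actDual]
    | add a b ha hb =>
      rw [show actDual (a + b) u = actDual a u + actDual b u by simp [actDual], map_add, ha, hb, map_add,
        smul_add]
    | tmul f r =>
      rw [actDual_tmul]
      show algebraMap A₁ B'₁ r ⊗ₜ[B'] (⟨f ∘ₗ LinearMap.mulLeft A u⟩ : Disc.Omega A B') =
        algebraMap B' B'₁ u • (algebraMap A₁ B'₁ r ⊗ₜ[B'] (⟨f⟩ : Disc.Omega A B'))
      rw [algebraMap_smul, TensorProduct.smul_tmul', TensorProduct.smul_tmul]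
      rfl
  have hpre : Function.Surjective pre := by
    let e : A₁ ⊗[A] B' ≃ₗ[A₁] B'₁ := h.out.equiv
    have he : ∀ (r : A₁) (b : B'), e (r ⊗ₜ b) = r • algebraMap B' B'₁ b := fun r b => h.out.equiv_tmul r b
    intro z
    induction z using TensorProduct.induction_on with
    | zero => exact ⟨0, map_zero _⟩
    | add a b ha hb =>
      obtain ⟨x, rfl⟩ := ha
      obtain ⟨y, rfl⟩ := hb
      exact ⟨x + y, map_add _ _ _⟩
    | tmul b φ =>
      obtain ⟨w, rfl⟩ := e.surjective b
      induction w using TensorProduct.induction_on with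
      | zero => exact ⟨0, by rw [map_zero, map_zero, TensorProduct.zero_tmul]⟩
      | add u v hu hv =>
        obtain ⟨x, hx⟩ := hu
        obtain ⟨y, hy⟩ := hv
        exact ⟨x + y, by rw [map_add, hx, hy, map_add, TensorProduct.add_tmul]⟩
      | tmul r c =>
        refine ⟨(c • φ).toLinearMap ⊗ₜ r, ?_⟩
        show algebraMap A₁ B'₁ r ⊗ₜ[B'] (c • φ) = _
        rw [← TensorProduct.smul_tmul, he, Algebra.smul_def c, Algebra.smul_def r, mul_comm]
  have hc := coeff_local (N := A₁) A B' q' hflat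
  refine ⟨fun m hm => ?_, fun ω => ?_⟩
  · obtain ⟨t, rfl⟩ := hpre m
    obtain ⟨u, hu, hu0⟩ := hc.1 t (by rw [← hcomp, hm]; rfl)
    exact ⟨u, hu, by rw [← hact, hu0, map_zero]⟩
  · obtain ⟨u, hu, t, ht⟩ := hc.2 (res ω)
    refine ⟨u, hu, pre t, hres _ _ ?_⟩
    rw [hcomp, ht]
    refine LinearMap.ext fun x => ?_
    show ω.toLinearMap (algebraMap B' B'₁ (u * x)) = ω.toLinearMap (algebraMap B' B'₁ u * algebraMap B' B'₁ x)
    rw [map_mul]

variable {B B₁ : Type u} [CommRing B] [CommRing B₁] [Algebra B' B] [Algebra A B] [IsScalarTower A B' B]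
  [Algebra B B₁] [Algebra A₁ B₁] [Algebra A B₁] [IsScalarTower A A₁ B₁] [IsScalarTower A B B₁]
  [Algebra B'₁ B₁] [Algebra B' B₁] [IsScalarTower B' B'₁ B₁] [IsScalarTower B' B B₁]
  [IsScalarTower A₁ B'₁ B₁]

theorem omegaBC_bijective_of_flat [IsNoetherianRing A] [Module.Finite A B'] [Module.Flat A B]
    (hopen : AlgebraicGeometry.IsOpenImmersion
      (AlgebraicGeometry.Spec.map (CommRingCat.ofHom (algebraMap B' B))))
    (h : Algebra.IsPushout A A₁ B' B'₁) (hB : Algebra.IsPushout A A₁ B B₁) :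
    Function.Bijective (QFDual.omegaBC (B₁ := B₁) h) := by
  classical
  let β := bcLift h
  let F : B₁ ⊗[B'] Disc.Omega A B' →ₗ[B₁] B₁ ⊗[B'₁] Disc.Omega A₁ B'₁ :=
    β.baseChange B₁ ∘ₗ
      (TensorProduct.AlgebraTensorModule.cancelBaseChange B' B'₁ B₁ B₁ (Disc.Omega A B')).symm.toLinearMap
  have hF : QFDual.omegaBC (B₁ := B₁) h = F := by
    refine TensorProduct.AlgebraTensorModule.ext fun b φ => ?_
    rw [QFDual.omegaBC_tmul]
    simp [F, β, bcLift_tmul]
  rw [hF, LinearMap.coe_comp, LinearEquiv.coe_coe]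
  refine Function.Bijective.comp ?_ (LinearEquiv.bijective _)
  have hloc : ∀ (Q : Ideal B₁) [Q.IsMaximal], ∃ g : B',
      algebraMap B' B₁ g ∉ Q ∧ AwayIso (C := B₁) (algebraMap B' B'₁ g) ∧
        Module.Flat A (Localization.AtPrime ((Q.comap (algebraMap B B₁)).comap (algebraMap B' B))) := by
    intro Q _
    obtain ⟨g, hg, hiso, hbij⟩ := exists_awayIso hopen (Q.comap (algebraMap B B₁))
    refine ⟨g, ?_, hiso.baseChange h hB, flat_atPrime_of_awayMap g hbij _ hg⟩
    rwa [Ideal.mem_comap, ← IsScalarTower.algebraMap_apply] at hg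
  have hmem : ∀ (Q : Ideal B₁) (u : B'), u ∉ (Q.comap (algebraMap B B₁)).comap (algebraMap B' B) →
      algebraMap B'₁ B₁ (algebraMap B' B'₁ u) ∉ Q := fun Q u hu => by
    rwa [Ideal.mem_comap, Ideal.mem_comap, ← IsScalarTower.algebraMap_apply,
      IsScalarTower.algebraMap_apply B' B'₁ B₁] at hu
  constructor
  · rw [injective_iff_map_eq_zero]
    intro y hy
    by_contra hne
    obtain ⟨Q, hQ, hle⟩ := Ideal.exists_le_maximal (LinearMap.ker (LinearMap.toSpanSingleton B₁ _ y))
      (fun h => hne (by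
        have := h.symm ▸ Submodule.mem_top (x := (1 : B₁))
        simpa using this))
    haveI := hQ
    obtain ⟨g, hg, hiso, hflat⟩ := hloc Q
    obtain ⟨k, m, hm⟩ := hiso.exists_pow_mul_eq_tmul y
    obtain ⟨l, hl⟩ := hiso.exists_pow_smul_eq_zero (β m) (by
      have := congrArg (β.baseChange B₁) hm
      rw [map_smul, hy, smul_zero, LinearMap.baseChange_tmul] at this
      exact this.symm)
    rw [← map_smul] at hl
    obtain ⟨u, hu, hu0⟩ := (bcLift_local h _ hflat).1 _ hl
    let G := algebraMap B'₁ B₁ (algebraMap B' B'₁ g)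
    have hG : G ∉ Q := fun h => hg (by rwa [IsScalarTower.algebraMap_apply B' B'₁ B₁])
    have h3 : (algebraMap B'₁ B₁ (algebraMap B' B'₁ u) * G ^ l * G ^ k) • y = 0 := by
      rw [mul_smul, hm, ← map_pow, ← map_mul, TensorProduct.smul_tmul', smul_eq_mul, mul_one,
        Algebra.algebraMap_eq_smul_one, TensorProduct.smul_tmul, mul_smul, hu0, TensorProduct.tmul_zero]
    exact (Ideal.IsPrime.mul_notMem hQ.isPrime (Ideal.IsPrime.mul_notMem hQ.isPrime (hmem Q u hu)
      fun h => hG (hQ.isPrime.mem_of_pow_mem l h)) fun h => hG (hQ.isPrime.mem_of_pow_mem k h)) (hle (by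
        simpa using h3))
  · intro y
    by_contra hne
    have hne' : Submodule.colon (LinearMap.range (β.baseChange B₁)) {y} ≠ ⊤ := fun h => hne (by
      have := h.symm ▸ Submodule.mem_top (x := (1 : B₁))
      simpa [Submodule.mem_colon_singleton] using this)
    obtain ⟨Q, hQ, hle⟩ := Ideal.exists_le_maximal _ hne'
    haveI := hQ
    obtain ⟨g, hg, hiso, hflat⟩ := hloc Q
    obtain ⟨k, ω, hω⟩ := hiso.exists_pow_mul_eq_tmul y
    obtain ⟨u, hu, m, hm⟩ := (bcLift_local h _ hflat).2 ω
    let G := algebraMap B'₁ B₁ (algebraMap B' B'₁ g)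
    have hG : G ∉ Q := fun h => hg (by rwa [IsScalarTower.algebraMap_apply B' B'₁ B₁])
    have h3 : (algebraMap B'₁ B₁ (algebraMap B' B'₁ u) * G ^ k) ∈
        Submodule.colon (LinearMap.range (β.baseChange B₁)) {y} := by
      rw [Submodule.mem_colon_singleton]
      refine ⟨(1 : B₁) ⊗ₜ m, ?_⟩
      rw [LinearMap.baseChange_tmul, hm, mul_smul, hω, TensorProduct.smul_tmul', smul_eq_mul, mul_one,
        Algebra.algebraMap_eq_smul_one (R := B'₁), TensorProduct.smul_tmul]
    exact (Ideal.IsPrime.mul_notMem hQ.isPrime (hmem Q u hu)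
      fun h => hG (hQ.isPrime.mem_of_pow_mem k h)) (hle h3)

end Groth.Agent.OmegaCI
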