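import Groth.Agent.S6890
import Groth.Prelude.Def_Disc
import Mathlib.RingTheory.Etale.Kaehler
import Mathlib.RingTheory.RingHom.Flat
import Mathlib.RingTheory.Kaehler.Basic
import Mathlib.RingTheory.LocalProperties.Basic

/-!
Localisation of the Noether and Kähler differents.
-/

set_option autoImplicit false

universe u

open TensorProduct

namespace Groth.Agent.OmegaCI

/-- Annihilators of finitely generated ideals commute with flat extensions. -/
theorem annihilator_map_of_flat {R R' : Type u} [CommRing R] [CommRing R'] (φ : R →+* R') (hφ : φ.Flat)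
    (I : Ideal R) (hI : I.FG) :
    Submodule.annihilator (I.map φ) = (Submodule.annihilator I).map φ := by
  classical
  letI := φ.toAlgebra
  haveI : Module.Flat R R' := hφ
  obtain ⟨s, rfl⟩ := hI
  refine le_antisymm ?_ ?_
  · intro x hx
    let Ψ : R →ₗ[R] (s → R) := LinearMap.pi fun g => LinearMap.mulLeft R (g : R)
    let e := TensorProduct.rid R R'
    have hpi : ∀ (g : s) (t : R' ⊗[R] R),
        e (LinearMap.lTensor R' (LinearMap.mulLeft R (g : R)) t) = φ (g : R) * e t := by
      intro g t
      induction t with
      | zero => simp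
      | add p q hp hq => simp only [map_add, hp, hq, mul_add]
      | tmul a c =>
        rw [LinearMap.lTensor_tmul, LinearMap.mulLeft_apply]
        simp only [e, TensorProduct.rid_tmul, Algebra.smul_def, map_mul]
        show φ g * φ c * a = φ g * (φ c * a)
        rw [mul_assoc]
    have hpi' : ∀ (g : s) (t : R' ⊗[R] R),
        TensorProduct.piRight R R R' (fun _ : s => R) (LinearMap.lTensor R' Ψ t) g =
          LinearMap.lTensor R' (LinearMap.mulLeft R (g : R)) t := by
      intro g t
      induction t with
      | zero => simp
      | add p q hp hq => simp only [map_add, Pi.add_apply, hp, hq]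
      | tmul a c => simp [Ψ]
    have h0 : LinearMap.lTensor R' Ψ (e.symm x) = 0 := by
      apply (TensorProduct.piRight R R R' (fun _ : s => R)).injective
      rw [map_zero]
      funext g
      rw [hpi', Pi.zero_apply]
      apply e.injective
      rw [hpi, LinearEquiv.apply_symm_apply, map_zero, mul_comm]
      exact Submodule.mem_annihilator.mp hx _ (Ideal.mem_map_of_mem _ (Submodule.subset_span g.2))
    obtain ⟨u, hu⟩ := (Module.Flat.lTensor_exact R' (LinearMap.exact_subtype_ker_map Ψ) _).mp h0
    rw [← e.apply_symm_apply x, ← hu]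
    clear hu h0 hx
    induction u with
    | zero => simp
    | add p q hp hq => simp only [map_add]; exact Ideal.add_mem _ hp hq
    | tmul a k =>
      rw [LinearMap.lTensor_tmul]
      show (k : R) • a ∈ _
      rw [Algebra.smul_def]
      refine Ideal.mul_mem_right _ _ (Ideal.mem_map_of_mem φ ?_)
      rw [Submodule.mem_annihilator_span]
      intro g
      rw [smul_eq_mul, mul_comm]
      exact congrFun (LinearMap.mem_ker.mp k.2) g
  · rw [Submodule.le_annihilator_iff, smul_eq_mul, ← Ideal.map_mul, ← smul_eq_mul,
      Submodule.annihilator_smul, Ideal.map_bot]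

variable {A B : Type u} [CommRing A] [CommRing B] [Algebra A B]

/-- The Noether different localises. -/
theorem noetherDifferent_localization [Algebra.FiniteType A B] (M : Submonoid B) (C : Type u) [CommRing C]
    [Algebra A C] [Algebra B C] [IsScalarTower A B C] [IsLocalization M C] :
    Disc.noetherDifferent A C = (Disc.noetherDifferent A B).map (algebraMap B C) := by
  let ι : B →ₐ[A] C := IsScalarTower.toAlgHom A B C
  let φ : B ⊗[A] B →ₐ[A] C ⊗[A] C := Algebra.TensorProduct.map ι ι
  have hflat : φ.toRingHom.Flat := by
    have h1 : ι.toRingHom.Flat := by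
      show (algebraMap B C).Flat
      rw [RingHom.flat_algebraMap_iff]
      exact IsLocalization.flat C M
    exact RingHom.Flat.tensorProductMap h1 h1
  have hμ : ∀ z, Algebra.TensorProduct.lmul' (S := C) A (φ z) =
      algebraMap B C (Algebra.TensorProduct.lmul' (S := B) A z) := by
    intro z
    induction z with
    | zero => simp
    | add a b ha hb => simp [ha, hb]
    | tmul x y => simp [φ, ι]
  have hker : RingHom.ker (Algebra.TensorProduct.lmul' (S := C) A) =
      (RingHom.ker (Algebra.TensorProduct.lmul' (S := B) A)).map φ.toRingHom := by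
    refine le_antisymm ?_ (Ideal.map_le_iff_le_comap.2 fun z hz => ?_)
    · change KaehlerDifferential.ideal A C ≤ _
      rw [← KaehlerDifferential.span_range_eq_ideal, Ideal.span_le]
      rintro _ ⟨c, rfl⟩
      obtain ⟨b, m, rfl⟩ := IsLocalization.exists_mk'_eq M c
      let J := (RingHom.ker (Algebra.TensorProduct.lmul' (S := B) A)).map φ.toRingHom
      set v := IsLocalization.mk' C b m
      have hu : IsUnit ((algebraMap B C m ⊗ₜ[A] algebraMap B C m : C ⊗[A] C)) := by
        obtain ⟨w, hw⟩ := IsLocalization.map_units C m
        exact IsUnit.of_mul_eq_one ((↑w⁻¹ : C) ⊗ₜ[A] (↑w⁻¹ : C)) (by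
          rw [Algebra.TensorProduct.tmul_mul_tmul, ← hw, Units.mul_inv, ← Algebra.TensorProduct.one_def])
      refine (Ideal.unit_mul_mem_iff_mem (I := J) hu).1 ?_
      have hb : v * algebraMap B C m = algebraMap B C b := IsLocalization.mk'_spec C b m
      have hmem : ∀ x y : B, φ (x ⊗ₜ y) - φ (y ⊗ₜ x) ∈ J := fun x y => by
        rw [← map_sub]
        exact Ideal.mem_map_of_mem _ (by simp [RingHom.mem_ker, mul_comm])
      have h2 := hmem (m : B) b
      simp only [φ, ι, Algebra.TensorProduct.map_tmul, IsScalarTower.coe_toAlgHom'] at h2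
      rw [mul_sub, Algebra.TensorProduct.tmul_mul_tmul, Algebra.TensorProduct.tmul_mul_tmul, mul_one,
        mul_comm _ v, hb]
      exact h2
    · show Algebra.TensorProduct.lmul' (S := C) A (φ z) = 0
      rw [hμ, show Algebra.TensorProduct.lmul' (S := B) A z = 0 from hz, map_zero]
  unfold Disc.noetherDifferent
  rw [hker, annihilator_map_of_flat _ hflat _ (KaehlerDifferential.ideal_fg A B)]
  change Ideal.map (Algebra.TensorProduct.lmul' (S := C) A).toRingHom (Ideal.map φ.toRingHom _) =
    Ideal.map (algebraMap B C) (Ideal.map (Algebra.TensorProduct.lmul' (S := B) A).toRingHom _)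
  rw [Ideal.map_map, Ideal.map_map]
  congr 1
  exact RingHom.ext hμ

/-- The Kähler different localises. -/
theorem fitting_kaehler_localization [Algebra.FiniteType A B] (M : Submonoid B) (C : Type u) [CommRing C]
    [Algebra A C] [Algebra B C] [IsScalarTower A B C] [IsLocalization M C] :
    Fitt.ideal C (KaehlerDifferential A C) 0 = (Fitt.ideal B (KaehlerDifferential A B) 0).map (algebraMap B C) := by
  haveI := Algebra.FormallyEtale.of_isLocalization (Rₘ := C) M
  let e := KaehlerDifferential.tensorKaehlerEquivOfFormallyEtale A B C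
  rw [← S6890.result (R := B) (R' := C) (KaehlerDifferential A B) 0]
  haveI : Module.Finite C (KaehlerDifferential A C) := Module.Finite.equiv e
  obtain ⟨n, x, hx⟩ := Module.Finite.exists_fin (R := C) (M := C ⊗[B] KaehlerDifferential A B)
  rw [FittIdeal.ideal_eq x hx, FittIdeal.ideal_eq (e ∘ x) (by rw [Set.range_comp, ← LinearEquiv.coe_coe, Submodule.span_image, hx, Submodule.map_top, LinearEquiv.range]), FittIdeal.dIdeal,
    FittIdeal.dIdeal]
  congr 1
  ext d
  simp only [Set.mem_setOf_eq, Function.comp_apply]
  refine exists_congr fun a => and_congr (forall_congr' fun i => imp_congr Iff.rfl ?_) Iff.rfl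
  rw [← map_eq_zero_iff e e.injective, map_sum]
  simp only [map_smul]

end Groth.Agent.OmegaCI
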