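import Groth.Agent.OmegaCI.HenselStep
import Groth.Agent.OmegaCI.DualBaseChange
import Groth.Agent.OmegaCI.Localize
import Mathlib.RingTheory.AdicCompletion.LocalRing
import Mathlib.RingTheory.AdicCompletion.AsTensorProduct
import Mathlib.RingTheory.Henselian
import Mathlib.RingTheory.LocalRing.Module
import Mathlib.RingTheory.Localization.BaseChange
import Mathlib.RingTheory.Localization.LocalizationLocalization
import Mathlib.RingTheory.QuasiFinite.Basic

/-!
The dualizing module of a finite algebra near a flat Gorenstein point, over any Noetherian base.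
-/

set_option autoImplicit false
set_option linter.style.haveILetI false

universe u

open TensorProduct IsLocalRing

namespace Groth.Agent.OmegaCI

attribute [local instance] Algebra.TensorProduct.rightAlgebra in
theorem omega_near_flat_gorenstein_point {A B' : Type u} [CommRing A] [IsNoetherianRing A] [CommRing B']
    [Algebra A B'] [Module.Finite A B'] (p : Ideal A) [p.IsPrime] (q' : Ideal B') [q'.IsPrime] [q'.LiesOver p]
    (hflat : Module.Flat A (Localization.AtPrime q'))
    (hsoc : ∀ Q : Ideal (p.Fiber B'), Q.IsMaximal →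
      Q.comap (Algebra.TensorProduct.includeRight : B' →ₐ[A] p.Fiber B') = q' → SocPrincipal Q) :
    (∃ φ : Disc.Omega A B', ∀ ψ : Disc.Omega A B', ∃ u ∉ q', ∃ c : B', u • ψ = c • φ) ∧
      ∀ x : B', (∃ u ∉ q', ∀ φ : Disc.Omega A B', (u * x) • φ = 0) → ∃ v ∉ q', v * x = 0 := by
  classical
  haveI : IsNoetherianRing B' := IsNoetherianRing.of_finite A B'
  haveI hMfin : Module.Finite B' (Disc.Omega A B') := by
    obtain ⟨T, hT⟩ := Module.Finite.fg_top (R := A) (M := Module.Dual A B')
    refine ⟨⟨T.image fun f => (⟨f⟩ : Disc.Omega A B'), eq_top_iff.2 fun φ _ => ?_⟩⟩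
    obtain ⟨c, hc⟩ := Submodule.mem_span_finset.1
      (hT ▸ Submodule.mem_top : φ.toLinearMap ∈ Submodule.span A (T : Set (Module.Dual A B')))
    have : φ = ∑ f ∈ T, algebraMap A B' (c f) • (⟨f⟩ : Disc.Omega A B') := by
      apply Disc.Omega.ext
      refine LinearMap.ext fun x => ?_
      rw [omega_sum_apply, ← hc.2]
      simp only [omega_algebraMap_smul, LinearMap.sum_apply, LinearMap.smul_apply, smul_eq_mul]
    rw [this]
    exact Submodule.sum_mem _ fun f hf => Submodule.smul_mem _ _
      (Submodule.subset_span (Finset.mem_image_of_mem _ hf))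
  let Ap := Localization.AtPrime p
  let R := AdicCompletion (maximalIdeal Ap) Ap
  haveI : IsScalarTower A Ap R := IsScalarTower.of_algebraMap_eq fun _ => rfl
  haveI : Module.Flat A R := Module.Flat.trans A Ap R
  let T := R ⊗[A] B'
  -- the residue maps
  let ε : R →ₐ[A] p.ResidueField := (AdicCompletion.evalOneₐ (maximalIdeal Ap)).restrictScalars A
  have hε : Function.Surjective ε := AdicCompletion.evalOneₐ_surjective (maximalIdeal Ap)
  have hkerε : RingHom.ker ε.toRingHom = maximalIdeal R := IsLocalRing.eq_maximalIdeal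
    (RingHom.ker_isMaximal_of_surjective ε.toRingHom hε)
  let θ : T →ₐ[A] p.Fiber B' := Algebra.TensorProduct.map ε (AlgHom.id A B')
  have hθ : Function.Surjective θ := TensorProduct.map_surjective hε Function.surjective_id
  have hkerθ : RingHom.ker θ = (maximalIdeal R).map (algebraMap R T) := by
    rw [← hkerε]
    exact Algebra.TensorProduct.rTensor_ker (C := B') ε hε
  have hpq : p = q'.comap (algebraMap A B') := Ideal.LiesOver.over
  let r : p.Fiber B' →ₐ[A] q'.ResidueField :=
    Algebra.TensorProduct.productMap (Ideal.ResidueField.mapₐ p q' (Algebra.ofId A B') hpq)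
      (IsScalarTower.toAlgHom A B' q'.ResidueField)
  let Q : Ideal (p.Fiber B') := RingHom.ker r
  haveI : Q.IsPrime := RingHom.ker_isPrime r.toRingHom
  haveI : Module.Finite p.ResidueField (p.Fiber B') := inferInstance
  haveI : IsArtinianRing (p.Fiber B') := IsArtinianRing.of_finite p.ResidueField (p.Fiber B')
  haveI : Q.IsMaximal := IsArtinianRing.isMaximal_of_isPrime Q
  have hQ : Q.comap (Algebra.TensorProduct.includeRight : B' →ₐ[A] p.Fiber B') = q' := by
    ext b
    show r ((1 : p.ResidueField) ⊗ₜ[A] b) = 0 ↔ b ∈ q'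
    simp [r, Ideal.algebraMap_residueField_eq_zero]
  let n : Ideal T := Q.comap θ.toRingHom
  haveI : n.IsMaximal := Ideal.comap_isMaximal_of_surjective θ.toRingHom hθ
  have hnq : ∀ b : B', ((1 : R) ⊗ₜ[A] b : T) ∈ n ↔ b ∈ q' := fun b => by
    rw [← hQ]
    show θ ((1 : R) ⊗ₜ[A] b) ∈ Q ↔ (1 : p.ResidueField) ⊗ₜ[A] b ∈ Q
    rw [show θ ((1 : R) ⊗ₜ[A] b) = (1 : p.ResidueField) ⊗ₜ[A] b from
      (Algebra.TensorProduct.map_tmul ε (AlgHom.id A B') 1 b).trans (by rw [map_one]; rfl)]
  -- flatness
  haveI : Module.Flat R (Localization.AtPrime n) := by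
    let Cr := R ⊗[A] Localization.AtPrime q'
    letI : Algebra T Cr :=
      (Algebra.TensorProduct.map (AlgHom.id R R) (IsScalarTower.toAlgHom A B' (Localization.AtPrime q'))).toAlgebra
    haveI : IsScalarTower R T Cr := IsScalarTower.of_algebraMap_eq (R := R) (S := T) (A := Cr) fun x =>
      ((Algebra.TensorProduct.map (AlgHom.id R R) (IsScalarTower.toAlgHom A B' (Localization.AtPrime q'))).commutes x).symm
    haveI := IsLocalization.tensorProduct_tensorProduct_right A R q'.primeCompl (Localization.AtPrime q')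
      (by ext; simp [RingHom.algebraMap_toAlgebra])
    let Mo : Submonoid T := q'.primeCompl.map (Algebra.TensorProduct.includeRight (R := A) (A := R))
    have hMo : Mo ≤ n.primeCompl := by
      rintro _ ⟨s, hs, rfl⟩
      exact fun h => hs ((hnq s).1 h)
    let g : Cr →+* Localization.AtPrime n := IsLocalization.lift (M := Mo)
      (g := algebraMap T (Localization.AtPrime n)) fun s => IsLocalization.map_units (Localization.AtPrime n)
        (⟨s.1, hMo s.2⟩ : n.primeCompl)
    letI : Algebra Cr (Localization.AtPrime n) := g.toAlgebra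
    haveI : IsScalarTower T Cr (Localization.AtPrime n) := IsScalarTower.of_algebraMap_eq fun x => by
      show _ = g (algebraMap T Cr x)
      rw [IsLocalization.lift_eq]
    haveI := IsLocalization.isLocalization_of_submonoid_le Cr (Localization.AtPrime n) Mo n.primeCompl hMo
    haveI : Module.Flat Cr (Localization.AtPrime n) :=
      IsLocalization.flat (Localization.AtPrime n) (n.primeCompl.map (algebraMap T Cr))
    haveI : IsScalarTower R Cr (Localization.AtPrime n) :=
      IsScalarTower.of_algebraMap_eq (R := R) (S := Cr) (A := Localization.AtPrime n) fun x =>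
        (IsScalarTower.algebraMap_apply R T (Localization.AtPrime n) x).trans
          ((IsScalarTower.algebraMap_apply T Cr (Localization.AtPrime n) _).trans
            (congrArg _ (IsScalarTower.algebraMap_apply R T Cr x).symm))
    haveI : Module.Flat R Cr := inferInstance
    exact Module.Flat.trans R Cr (Localization.AtPrime n)
  -- the socle
  have hsocT : SocPrincipal (n.map (Ideal.Quotient.mk ((maximalIdeal R).map (algebraMap R T)))) := by
    obtain ⟨s, hs, hgen⟩ := hsoc Q inferInstance hQ
    let κ : (T ⧸ (maximalIdeal R).map (algebraMap R T)) →+* p.Fiber B' :=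
      Ideal.Quotient.lift _ θ.toRingHom fun x hx => RingHom.mem_ker.1 (hkerθ.ge hx)
    have hκinj : Function.Injective κ := RingHom.lift_injective_of_ker_le_ideal _ _ (le_of_eq hkerθ)
    have hκ : Function.Surjective κ := Ideal.Quotient.lift_surjective_of_surjective _ _ hθ
    have hκn : ∀ z, z ∈ n.map (Ideal.Quotient.mk ((maximalIdeal R).map (algebraMap R T))) ↔ κ z ∈ Q := by
      intro z
      obtain ⟨z, rfl⟩ := Ideal.Quotient.mk_surjective z
      show _ ↔ θ z ∈ Q
      constructor
      · intro h
        obtain ⟨w, hw, hwz⟩ := (Ideal.mem_map_iff_of_surjective _ Ideal.Quotient.mk_surjective).1 h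
        have h1 : θ w = θ z := congrArg κ hwz
        exact h1 ▸ hw
      · exact fun h => Ideal.mem_map_of_mem _ h
    obtain ⟨s₀, rfl⟩ := hκ s
    refine ⟨s₀, fun m hm => hκinj ?_, fun b hb => ?_⟩
    · rw [map_mul, map_zero]; exact hs _ ((hκn m).1 hm)
    · obtain ⟨c, hc⟩ := hgen (κ b) fun m hm => by
        obtain ⟨m, rfl⟩ := hκ m
        rw [← map_mul, hb m ((hκn m).2 hm), map_zero]
      obtain ⟨c, rfl⟩ := hκ c
      exact ⟨c, hκinj (by rw [hc, map_mul])⟩
  obtain ⟨⟨φ₀, hφ₀⟩, hfaith⟩ := henselian_step (R := R) n ‹_› hsocT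
  have hbij := omegaPhi_bijective (A := A) (B := B') R
  let ι : Disc.Omega A B' → Disc.Omega R T := fun φ => omegaBC₀ R φ
  have hspan : ∀ χ : Disc.Omega R T, χ ∈ Submodule.span T (Set.range ι) := by
    intro χ
    obtain ⟨t, rfl⟩ := hbij.2 χ
    induction t using TensorProduct.induction_on with
    | zero => rw [map_zero]; exact Submodule.zero_mem _
    | tmul a f =>
      rw [omegaPhi_tmul]
      exact Submodule.smul_mem _ _ (Submodule.subset_span ⟨⟨f⟩, rfl⟩)
    | add a b ha hb => rw [map_add]; exact Submodule.add_mem _ ha hb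
  -- a generator coming from `A`
  obtain ⟨φ, hφ⟩ : ∃ φ : Disc.Omega A B', ∀ χ : Disc.Omega R T,
      χ ∈ Submodule.span T {ι φ} ⊔ n • (⊤ : Submodule T (Disc.Omega R T)) := by
    by_cases h : ∀ φ, ι φ ∈ n • (⊤ : Submodule T (Disc.Omega R T))
    · refine ⟨0, fun χ => Submodule.mem_sup_right ?_⟩
      exact (Submodule.span_le.2 (by rintro _ ⟨φ, rfl⟩; exact h φ)) (hspan χ)
    push Not at h
    obtain ⟨φ, hφ⟩ := h
    refine ⟨φ, fun χ => ?_⟩
    obtain ⟨a, ha, b, hb, hab⟩ := Submodule.mem_sup.1 (hφ₀ (ι φ))
    obtain ⟨c, rfl⟩ := Submodule.mem_span_singleton.1 ha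
    have hc : c ∉ n := fun hc => hφ (hab ▸ add_mem (Submodule.smul_mem_smul hc trivial) hb)
    obtain ⟨d, m, hm, hdm⟩ := Ideal.IsMaximal.exists_inv ‹n.IsMaximal› hc
    have h0 : φ₀ ∈ Submodule.span T {ι φ} ⊔ n • (⊤ : Submodule T (Disc.Omega R T)) := by
      have e1 : φ₀ = d • ι φ + (m • φ₀ - d • b) := by
        rw [← hab, smul_add, smul_smul]
        calc φ₀ = (d * c + m) • φ₀ := by rw [hdm, one_smul]
          _ = _ := by rw [add_smul]; abel
      rw [e1]
      exact add_mem (Submodule.mem_sup_left (Submodule.smul_mem _ _ (Submodule.mem_span_singleton_self _)))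
        (Submodule.mem_sup_right (sub_mem (Submodule.smul_mem_smul hm trivial) (Submodule.smul_mem _ _ hb)))
    obtain ⟨a', ha', b', hb', rfl⟩ := Submodule.mem_sup.1 (hφ₀ χ)
    obtain ⟨c', rfl⟩ := Submodule.mem_span_singleton.1 ha'
    exact add_mem (Submodule.smul_mem _ _ h0) (Submodule.mem_sup_right hb')
  refine ⟨⟨φ, ?_⟩, ?_⟩
  · -- descend along `V = κ(q') ⊗ (ω / B' φ)`
    let N := Submodule.span B' {φ}
    let V := q'.ResidueField ⊗[B'] (Disc.Omega A B' ⧸ N)
    let ρ : T →+* q'.ResidueField := r.toRingHom.comp θ.toRingHom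
    have hρ : ∀ b : B', ρ ((1 : R) ⊗ₜ[A] b) = algebraMap B' q'.ResidueField b := fun b => by
      show r (θ ((1 : R) ⊗ₜ[A] b)) = _
      rw [show θ ((1 : R) ⊗ₜ[A] b) = (1 : p.ResidueField) ⊗ₜ[A] b from
        (Algebra.TensorProduct.map_tmul ε (AlgHom.id A B') 1 b).trans (by rw [map_one]; rfl)]
      simp [r]
    let lam : Disc.Omega A B' → V := fun ψ => (1 : q'.ResidueField) ⊗ₜ[B'] N.mkQ ψ
    have hlam : ∀ (b : B') ψ, lam (b • ψ) = algebraMap B' q'.ResidueField b • lam ψ := fun b ψ => by
      show (1 : q'.ResidueField) ⊗ₜ[B'] N.mkQ (b • ψ) = _ • ((1 : q'.ResidueField) ⊗ₜ[B'] N.mkQ ψ)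
      rw [map_smul, TensorProduct.smul_tmul', TensorProduct.tmul_smul, smul_eq_mul, mul_one,
        TensorProduct.smul_tmul', Algebra.smul_def, mul_one]
    let L : R ⊗[A] (B' →ₗ[A] A) →+ V := TensorProduct.liftAddHom
      (AddMonoidHom.mk' (fun a => AddMonoidHom.mk'
          (fun f => ρ (algebraMap R T a) • lam (⟨f⟩ : Disc.Omega A B')) fun f g => by
        rw [← smul_add]
        congr 1
        show (1 : q'.ResidueField) ⊗ₜ[B'] N.mkQ ((⟨f⟩ : Disc.Omega A B') + ⟨g⟩) = _
        rw [map_add, TensorProduct.tmul_add]) fun a b => by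
        ext f : 1
        exact (congrArg (· • lam (⟨f⟩ : Disc.Omega A B')) (by rw [map_add, map_add])).trans (add_smul _ _ _))
      fun a x f => by
        show ρ (algebraMap R T (a • x)) • lam ⟨f⟩ = ρ (algebraMap R T x) • lam ⟨a • f⟩
        have e1 : (⟨a • f⟩ : Disc.Omega A B') = algebraMap A B' a • (⟨f⟩ : Disc.Omega A B') := by
          apply Disc.Omega.ext
          exact LinearMap.ext fun y => (omega_algebraMap_smul a (⟨f⟩ : Disc.Omega A B') y).symm
        have e2 : algebraMap R T (a • x) = ((1 : R) ⊗ₜ[A] algebraMap A B' a) * algebraMap R T x := by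
          rw [Algebra.TensorProduct.algebraMap_apply, Algebra.TensorProduct.algebraMap_apply,
            Algebra.algebraMap_self, RingHom.id_apply, RingHom.id_apply,
            Algebra.TensorProduct.tmul_mul_tmul, one_mul, Algebra.algebraMap_eq_smul_one, mul_one,
            TensorProduct.smul_tmul]
        rw [e1, hlam, e2, map_mul, hρ, mul_comm, mul_smul]
    have hL : ∀ (z : T) (t : R ⊗[A] (B' →ₗ[A] A)),
        ∃ t', omegaPhi R t' = z • omegaPhi R t ∧ L t' = ρ z • L t := by
      intro z t
      induction z using TensorProduct.induction_on with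
      | zero => exact ⟨0, (map_zero _).trans (zero_smul T (omegaPhi R t)).symm,
          (map_zero L).trans ((congrArg (· • L t) (map_zero ρ)).trans (zero_smul _ _)).symm⟩
      | add z w hz hw =>
        obtain ⟨u, hu1, hu2⟩ := hz
        obtain ⟨v, hv1, hv2⟩ := hw
        exact ⟨u + v, by rw [map_add, hu1, hv1]; exact (add_smul (R := T) z w _).symm,
          by rw [map_add, hu2, hv2, map_add, add_smul]⟩
      | tmul a b =>
        induction t using TensorProduct.induction_on with
        | zero => exact ⟨0, by rw [map_zero, smul_zero], by rw [map_zero, smul_zero]⟩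
        | add t s ht hs =>
          obtain ⟨u, hu1, hu2⟩ := ht
          obtain ⟨v, hv1, hv2⟩ := hs
          exact ⟨u + v, by rw [map_add, hu1, hv1, map_add, smul_add], by rw [map_add, hu2, hv2, map_add, smul_add]⟩
        | tmul x f =>
          refine ⟨(a * x) ⊗ₜ[A] (b • (⟨f⟩ : Disc.Omega A B')).toLinearMap, ?_, ?_⟩
          · rw [omegaPhi_tmul, omegaPhi_tmul]
            show _ • omegaBC₀ R (b • (⟨f⟩ : Disc.Omega A B')) = _
            rw [omegaBC₀_smul]
            refine (mul_smul (α := R ⊗[A] B') (β := Disc.Omega R (R ⊗[A] B')) _ _ _).symm.trans (Eq.trans ?_ (mul_smul (α := R ⊗[A] B') (β := Disc.Omega R (R ⊗[A] B')) _ _ _))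
            congr 1
            simp only [Algebra.TensorProduct.algebraMap_apply, Algebra.algebraMap_self, RingHom.id_apply,
              Algebra.TensorProduct.tmul_mul_tmul, one_mul, mul_one]
          · show ρ (algebraMap R T (a * x)) • lam (b • (⟨f⟩ : Disc.Omega A B')) =
              ρ (a ⊗ₜ[A] b) • ρ (algebraMap R T x) • lam (⟨f⟩ : Disc.Omega A B')
            rw [hlam, ← hρ, smul_smul, smul_smul, ← map_mul, ← map_mul]
            refine congrArg (fun z => ρ z • lam (⟨f⟩ : Disc.Omega A B')) ?_
            show algebraMap R (R ⊗[A] B') (a * x) * ((1 : R) ⊗ₜ[A] b) = (a ⊗ₜ[A] b) * algebraMap R (R ⊗[A] B') x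
            simp only [Algebra.TensorProduct.algebraMap_apply, Algebra.algebraMap_self, RingHom.id_apply,
              Algebra.TensorProduct.tmul_mul_tmul, one_mul, mul_one]
    let Φ := AddEquiv.ofBijective (omegaPhi (A := A) (B := B') R) hbij
    let Λ : Disc.Omega R T →+ V := L.comp Φ.symm.toAddMonoidHom
    have hΛ : ∀ z χ, Λ (z • χ) = ρ z • Λ χ := by
      intro z χ
      obtain ⟨t, rfl⟩ := hbij.2 χ
      obtain ⟨t', h1, h2⟩ := hL z t
      rw [← h1]
      show L (Φ.symm (Φ t')) = ρ z • L (Φ.symm (Φ t))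
      rw [Φ.symm_apply_apply, Φ.symm_apply_apply, h2]
    have hΛι : ∀ ψ, Λ (ι ψ) = lam ψ := by
      intro ψ
      have h1 : ι ψ = omegaPhi R ((1 : R) ⊗ₜ[A] ψ.toLinearMap) := by
        rw [omegaPhi_tmul, map_one, one_smul]
      rw [h1]
      refine (congrArg L (Φ.symm_apply_apply ((1 : R) ⊗ₜ[A] ψ.toLinearMap))).trans ?_
      show ρ (algebraMap R T 1) • lam ψ = _
      rw [map_one, map_one, one_smul]
    have hzero : ∀ ψ, lam ψ = 0 := by
      intro ψ
      obtain ⟨a, ha, b, hb, hab⟩ := Submodule.mem_sup.1 (hφ (ι ψ))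
      rw [← hΛι, ← hab, map_add]
      obtain ⟨c, rfl⟩ := Submodule.mem_span_singleton.1 ha
      have h1 : Λ b = 0 := by
        refine Submodule.smul_induction_on hb (fun z hz y _ => ?_) fun y w hy hw => by rw [map_add, hy, hw, add_zero]
        have hz' : ρ z = 0 := hz
        rw [hΛ, hz', zero_smul]
      have h2 : lam φ = 0 := by
        show (1 : q'.ResidueField) ⊗ₜ[B'] N.mkQ φ = 0
        rw [show N.mkQ φ = 0 from (Submodule.Quotient.mk_eq_zero N).2 (Submodule.mem_span_singleton_self φ),
          TensorProduct.tmul_zero]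
      rw [hΛ, hΛι, h2, smul_zero, h1, add_zero]
    have hV : Subsingleton V := by
      refine subsingleton_of_forall_eq 0 fun v => ?_
      induction v using TensorProduct.induction_on with
      | zero => rfl
      | tmul k m =>
        obtain ⟨ψ, rfl⟩ := N.mkQ_surjective m
        have : k ⊗ₜ[B'] N.mkQ ψ = k • lam ψ := by
          show _ = k • ((1 : q'.ResidueField) ⊗ₜ[B'] N.mkQ ψ)
          rw [TensorProduct.smul_tmul', smul_eq_mul, mul_one]
        rw [this, hzero, smul_zero]
      | add x y hx hy => rw [hx, hy, add_zero]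
    intro ψ
    have hsupp : (⟨q', inferInstance⟩ : PrimeSpectrum B') ∉ Module.support B' (Disc.Omega A B' ⧸ N) := fun h => by
      have := (Module.mem_support_iff_nontrivial_residueField_tensorProduct (R := B') _).1 h
      exact not_subsingleton V hV
    rw [Module.notMem_support_iff'] at hsupp
    obtain ⟨u, hu, hu0⟩ := hsupp (N.mkQ ψ)
    rw [← map_smul] at hu0
    obtain ⟨c, hc⟩ := Submodule.mem_span_singleton.1 ((Submodule.Quotient.mk_eq_zero N).1 hu0)
    exact ⟨u, hu, c, hc.symm⟩
  · rintro x ⟨u, hu, hux⟩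
    obtain ⟨v, hv, hv0⟩ := hfaith ((1 : R) ⊗ₜ[A] (u * x)) fun χ => by
      induction hspan χ using Submodule.span_induction with
      | mem y hy =>
        obtain ⟨f, rfl⟩ := hy
        show ((1 : R) ⊗ₜ[A] (u * x) : T) • omegaBC₀ R f = 0
        rw [← omegaBC₀_smul, hux]
        apply Disc.Omega.ext
        refine LinearMap.ext fun z => ?_
        induction z using TensorProduct.induction_on with
        | zero => rw [map_zero, map_zero]
        | tmul a b => rw [omegaBC₀_tmul]; simp
        | add a b ha hb => rw [map_add, map_add, ha, hb]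
      | zero => rw [smul_zero]
      | add y w _ _ hy hw => rw [smul_add, hy, hw, add_zero]
      | smul z y _ hy =>
        refine ((mul_smul (α := T) _ z y).symm.trans ((congrArg (· • y) (mul_comm _ z)).trans (mul_smul (α := T) z _ y))).trans ?_
        rw [hy, smul_zero]
    let inc : B' →ₐ[A] T := Algebra.TensorProduct.includeRight
    have hincflat : inc.toRingHom.Flat := by
      have h1 : inc = (Algebra.TensorProduct.map (Algebra.ofId A R) (AlgHom.id A B')).comp
          (Algebra.TensorProduct.lid A B').symm.toAlgHom := by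
        ext b; simp [inc, T]
      rw [h1]
      refine RingHom.Flat.comp (RingHom.Flat.of_bijective (Algebra.TensorProduct.lid A B').symm.bijective) ?_
      refine RingHom.Flat.tensorProductMap ?_ (RingHom.Flat.id B')
      show (algebraMap A R).Flat
      rw [RingHom.flat_algebraMap_iff]
      infer_instance
    have hvann : v ∈ Submodule.annihilator ((Ideal.span {u * x}).map inc.toRingHom) := by
      rw [Ideal.map_span, Set.image_singleton, ← Ideal.submodule_span_eq, Submodule.mem_annihilator_span_singleton]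
      exact hv0
    rw [annihilator_map_of_flat _ hincflat _ ⟨{u * x}, by simp⟩] at hvann
    by_contra hcon
    push Not at hcon
    refine hv ?_
    refine (Ideal.map_le_iff_le_comap.2 (fun a ha => ?_) : _ ≤ n) hvann
    refine (hnq a).2 ?_
    by_contra haq
    have hax : a * (u * x) = 0 := by
      rw [← Ideal.submodule_span_eq, Submodule.mem_annihilator_span_singleton] at ha
      exact ha
    exact hcon (a * u) (fun h => (Ideal.IsPrime.mem_or_mem ‹q'.IsPrime› h).elim haq hu) (by rw [mul_assoc, hax])

end Groth.Agent.OmegaCI
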