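import Groth.Agent.OmegaCI.Finite
import Groth.Agent.GorLib.FlatFibre
import Groth.Agent.RelGCILib.Criterion

/-!
Fibre socles: from an invertible dualizing module and from syntomicity.
-/

set_option autoImplicit false

universe u

open Module TensorProduct

namespace Groth.Agent.OmegaCI

/-- Over a field, a locally cyclic dualizing module gives principal socles. -/
theorem socPrincipal_of_cyclic {k S : Type u} [Field k] [CommRing S] [Algebra k S] [Module.Finite k S]
    (n : Ideal S) [n.IsMaximal] (φ : Disc.Omega k S)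
    (hgen : ∀ χ : Disc.Omega k S, ∃ u ∉ n, ∃ c : S, u • χ = c • φ) : SocPrincipal n := by
  by_cases h0 : ∀ b : S, (∀ m ∈ n, m * b = 0) → b = 0
  · exact ⟨0, fun m _ => mul_zero m, fun b hb => ⟨0, by rw [h0 b hb, mul_zero]⟩⟩
  push Not at h0
  obtain ⟨a, ha, ha0⟩ := h0
  refine ⟨a, ha, fun b hb => ?_⟩
  let Soc : Submodule k S :=
    { carrier := {x | ∀ m ∈ n, m * x = 0}
      zero_mem' := fun m _ => mul_zero m
      add_mem' := fun {x y} hx hy m hm => by rw [mul_add, hx m hm, hy m hm, add_zero]
      smul_mem' := fun c x hx m hm => by rw [mul_smul_comm, hx m hm, smul_zero] }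
  let n' : Submodule k S := n.restrictScalars k
  have hn'Soc : ∀ x ∈ Soc, ∀ z ∈ n', φ.toLinearMap (z * x) = 0 := fun x hx z hz => by
    rw [hx z hz, map_zero]
  let Λ : Soc →ₗ[k] Dual k (S ⧸ n') :=
    { toFun := fun x => n'.liftQ (φ.toLinearMap ∘ₗ LinearMap.mulRight k (x : S))
        fun z hz => by simpa using hn'Soc x.1 x.2 z hz
      map_add' := fun x y => LinearMap.ext fun z => by
        obtain ⟨z, rfl⟩ := n'.mkQ_surjective z
        simp [mul_add]
      map_smul' := fun c x => LinearMap.ext fun z => by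
        obtain ⟨z, rfl⟩ := n'.mkQ_surjective z
        simp }
  have hΛ : Function.Injective Λ := by
    rw [injective_iff_map_eq_zero]
    rintro ⟨x, hx⟩ h
    refine Subtype.ext ((Module.forall_dual_apply_eq_zero_iff k x).1 fun f => ?_)
    obtain ⟨u, hu, c, hc⟩ := hgen ⟨f⟩
    obtain ⟨v, m, hm, hvm⟩ := Ideal.IsMaximal.exists_inv ‹n.IsMaximal› hu
    have hx' : x = u * (v * x) := by linear_combination x * (-1 : S) * hvm + hx m hm
    have h1 : f (u * (v * x)) = φ.toLinearMap (c * (v * x)) :=
      congrArg (fun χ : Disc.Omega k S => χ.toLinearMap (v * x)) hc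
    show f x = 0
    rw [hx', h1, ← mul_assoc]
    exact LinearMap.congr_fun h (n'.mkQ (c * v))
  let μa : (S ⧸ n') →ₗ[k] Soc :=
    n'.liftQ (LinearMap.codRestrict Soc (LinearMap.mulRight k a) fun z m hm => by
        show m * (z * a) = 0
        rw [mul_left_comm, ha m hm, mul_zero])
      fun z hz => Subtype.ext (ha z hz)
  have hμa : Function.Injective μa := by
    rw [injective_iff_map_eq_zero]
    intro z hz
    obtain ⟨z, rfl⟩ := n'.mkQ_surjective z
    have h1 : z * a = 0 := congrArg Subtype.val hz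
    refine (Submodule.Quotient.mk_eq_zero n').2 ?_
    by_contra hzn
    exact ha0 (eq_zero_of_mul_eq_zero ha (show z ∉ n from hzn) h1)
  haveI : Module.Finite k (S ⧸ n') := Module.Finite.quotient k n'
  have hdim : Module.finrank k Soc ≤ Module.finrank k (S ⧸ n') :=
    le_of_le_of_eq (LinearMap.finrank_le_finrank_of_injective hΛ) Subspace.dual_finrank_eq
  have heq : Module.finrank k (S ⧸ n') = Module.finrank k Soc :=
    le_antisymm (LinearMap.finrank_le_finrank_of_injective hμa) hdim
  obtain ⟨z, hz⟩ := (LinearMap.injective_iff_surjective_of_finrank_eq_finrank heq).1 hμa ⟨b, hb⟩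
  obtain ⟨z, rfl⟩ := n'.mkQ_surjective z
  exact ⟨z, (congrArg Subtype.val hz).symm⟩

variable {A B : Type u} [CommRing A] [CommRing B] [Algebra A B]

/-- An invertible dualizing module gives Gorenstein fibres. -/
theorem isGorensteinRing_fibre_of_invertible [Module.Finite A B] [Module.Projective A B]
    (h : Module.Invertible B (Disc.Omega A B)) (K : Type u) [Field K] [Algebra A K] :
    LocCoh.IsGorensteinRing (K ⊗[A] B) := by
  classical
  let S := K ⊗[A] B
  let ι : Disc.Omega A B → Disc.Omega K S := fun g =>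
    ⟨LinearMap.liftBaseChange K ((Algebra.linearMap A K) ∘ₗ g.toLinearMap)⟩
  have hι : ∀ g t b, (ι g).toLinearMap (t ⊗ₜ b) = t * algebraMap A K (g.toLinearMap b) := fun g t b => rfl
  have hιs : ∀ (b : B) (g : Disc.Omega A B), ι (b • g) = ((1 : K) ⊗ₜ[A] b : S) • ι g := fun b g => by
    apply Disc.Omega.ext
    refine LinearMap.ext fun z => ?_
    induction z using TensorProduct.induction_on with
    | zero => rw [map_zero, map_zero]
    | tmul t x =>
      rw [hι, Disc.Omega.smul_toLinearMap_apply, Disc.Omega.smul_toLinearMap_apply,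
        Algebra.TensorProduct.tmul_mul_tmul, one_mul, hι]
    | add x y hx hy => rw [map_add, map_add, hx, hy]
  haveI : IsArtinianRing S := IsArtinianRing.of_finite K S
  refine gorenstein_of_socPrincipal fun n hn => ?_
  let n₀ : Ideal B := n.comap (Algebra.TensorProduct.includeRight : B →ₐ[A] S)
  haveI : n₀.IsPrime := Ideal.IsPrime.comap _
  -- a generator of `ω` near `n₀`
  obtain ⟨T, hT⟩ := TensorProduct.exists_finset ((Module.Invertible.linearEquiv B (Disc.Omega A B)).symm 1)
  have hT1 : ∑ i ∈ T, i.1 i.2 = 1 := by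
    have h1 := congrArg (Module.Invertible.linearEquiv B (Disc.Omega A B)) hT
    rw [LinearEquiv.apply_symm_apply, map_sum] at h1
    rw [h1]
    exact Finset.sum_congr rfl fun x _ => rfl
  obtain ⟨i, hi, hin⟩ : ∃ i ∈ T, i.1 i.2 ∉ n₀ := by
    by_contra hc
    push Not at hc
    exact Ideal.IsPrime.ne_top ‹n₀.IsPrime› ((Ideal.eq_top_iff_one _).2 (hT1 ▸ Ideal.sum_mem _ hc))
  refine socPrincipal_of_cyclic n (ι i.2) fun χ => ⟨(1 : K) ⊗ₜ[A] (i.1 i.2), hin, ?_⟩
  obtain ⟨l, g, x, hx⟩ : ∃ (l : ℕ) (g : Fin l → Dual A B) (x : Fin l → B), ∀ b : B, ∑ j, g j b • x j = b := by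
    obtain ⟨l, π, hπ⟩ := Module.Finite.exists_fin' A B
    obtain ⟨sec, hsec⟩ := Module.projective_lifting_property π LinearMap.id hπ
    refine ⟨l, fun i => (LinearMap.proj i) ∘ₗ sec, fun i => π (Pi.single i 1), fun b => ?_⟩
    have h1 := LinearMap.congr_fun hsec b
    simp only [LinearMap.comp_apply, LinearMap.id_apply, LinearMap.proj_apply] at h1 ⊢
    conv_rhs => rw [← h1, pi_eq_sum_univ' (sec b), map_sum]
    simp only [map_smul]
  have hχ : χ = ∑ j, algebraMap K S (χ.toLinearMap (1 ⊗ₜ x j)) • ι ⟨g j⟩ := by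
    apply Disc.Omega.ext
    refine LinearMap.ext fun z => ?_
    rw [omega_sum_apply]
    induction z using TensorProduct.induction_on with
    | zero => simp
    | tmul t b =>
      have e1 : χ.toLinearMap (t ⊗ₜ b) = t * ∑ j, algebraMap A K (g j b) * χ.toLinearMap (1 ⊗ₜ x j) := by
        conv_lhs => rw [← mul_one t, ← smul_eq_mul, ← TensorProduct.smul_tmul', map_smul, smul_eq_mul, ← hx b,
          TensorProduct.tmul_sum, map_sum]
        congr 1
        refine Finset.sum_congr rfl fun j _ => ?_
        rw [TensorProduct.tmul_smul, ← IsScalarTower.algebraMap_smul K (g j b), map_smul, smul_eq_mul]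
      rw [e1, Finset.mul_sum]
      refine Finset.sum_congr rfl fun j _ => ?_
      rw [omega_algebraMap_smul, hι]
      ring
    | add x y hx hy => rw [map_add, hx, hy, ← Finset.sum_add_distrib]; simp [map_add]
  have hswap : ∀ w : Disc.Omega A B, i.1 i.2 • w = i.1 w • i.2 := fun w => by
    have h2 : i.2 ⊗ₜ[B] w = w ⊗ₜ[B] i.2 := Module.Invertible.tmul_comm
    simpa using congrArg (fun t => TensorProduct.lid B _ (i.1.rTensor _ t)) h2
  refine ⟨∑ j, algebraMap K S (χ.toLinearMap (1 ⊗ₜ x j)) * ((1 : K) ⊗ₜ[A] i.1 ⟨g j⟩), ?_⟩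
  conv_lhs => rw [hχ]
  rw [Finset.smul_sum, Finset.sum_smul]
  refine Finset.sum_congr rfl fun j _ => ?_
  rw [mul_smul, smul_comm, ← hιs, hswap, hιs]

/-- The fibres of a finite syntomic algebra over closed points have principal socles. -/
theorem socPrincipal_fibre_of_isSyntomic [Module.Finite A B] (h : Synt.IsSyntomic A B) (p : Ideal A) [p.IsMaximal]
    (n : Ideal (B ⧸ p.map (algebraMap A B))) [n.IsMaximal] : SocPrincipal n := by
  letI : Field (A ⧸ p) := Ideal.Quotient.field p
  haveI : Module.Flat A B := h.1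
  haveI := GorLib.isGorensteinRing_fibre_of_isLCI (RelGCILib.isLCI_of_isSyntomic A B h) (A ⧸ p)
  haveI : LocCoh.IsGorensteinRing (B ⧸ p.map (algebraMap A B)) :=
    SegreOne.isGorensteinRing_of_ringEquiv (Algebra.TensorProduct.quotIdealMapEquivTensorQuot B p).symm.toRingEquiv
  haveI : Module.Finite (A ⧸ p) (B ⧸ p.map (algebraMap A B)) := Module.Finite.of_restrictScalars_finite A _ _
  haveI : IsArtinianRing (B ⧸ p.map (algebraMap A B)) := IsArtinianRing.of_finite (A ⧸ p) _
  haveI := LocCoh.IsGorensteinRing.isGorensteinLocalRing_localization n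
  exact socPrincipal_of_gorenstein n

/-- A finite projective syntomic algebra has an invertible dualizing module. -/
theorem invertible_omega_of_isSyntomic [IsNoetherianRing A] [Module.Finite A B] [Module.Projective A B]
    (h : Synt.IsSyntomic A B) : Module.Invertible B (Disc.Omega A B) := by
  haveI : IsNoetherianRing B := IsNoetherianRing.of_finite A B
  refine invertible_omega_of_socle fun n _ => ?_
  haveI : (n.comap (algebraMap A B)).IsMaximal := Ideal.isMaximal_comap_of_isIntegral_of_isMaximal n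
  haveI := Ideal.IsMaximal.map_of_surjective_of_ker_le (Ideal.Quotient.mk_surjective
    (I := (n.comap (algebraMap A B)).map (algebraMap A B))) (m := n) (by rw [Ideal.mk_ker]; exact Ideal.map_comap_le)
  exact socPrincipal_fibre_of_isSyntomic h _ _

end Groth.Agent.OmegaCI
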