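import Mathlib.AlgebraicGeometry.OpenImmersion
import Mathlib.AlgebraicGeometry.Restrict
import Mathlib.AlgebraicGeometry.AffineScheme
import Mathlib.AlgebraicGeometry.GammaSpecAdjunction
import Mathlib.RingTheory.Localization.Away.Basic

/-!
Affine open immersions are locally isomorphisms on basic opens.
-/

set_option autoImplicit false

universe u

open CategoryTheory AlgebraicGeometry

namespace Groth.Agent.OmegaCI

theorem exists_awayMap_bijective {B' B : Type u} [CommRing B'] [CommRing B] (φ : B' →+* B)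
    (h : IsOpenImmersion (Spec.map (CommRingCat.ofHom φ))) (q : Ideal B) [q.IsPrime] :
    ∃ g : B', φ g ∉ q ∧ Function.Bijective (Localization.awayMap φ g) := by
  haveI := h
  let f := Spec.map (CommRingCat.ofHom φ)
  obtain ⟨_, ⟨g, rfl⟩, hg, hsub⟩ := PrimeSpectrum.isTopologicalBasis_basic_opens.exists_subset_of_mem_open
    (show f ⟨q, inferInstance⟩ ∈ Set.range f from ⟨_, rfl⟩) f.isOpenEmbedding.isOpen_range
  refine ⟨g, fun hgq => hg hgq, ?_⟩
  let ψ := Localization.awayMap φ g
  let a := Spec.map (CommRingCat.ofHom (algebraMap B (Localization.Away (φ g))))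
  let b := Spec.map (CommRingCat.ofHom (algebraMap B' (Localization.Away g)))
  have hsq : Spec.map (CommRingCat.ofHom ψ) ≫ b = a ≫ f := by
    simp only [a, b, f, ← Spec.map_comp, ← CommRingCat.ofHom_comp]
    refine congrArg (fun χ => Spec.map (CommRingCat.ofHom χ)) ?_
    exact IsLocalization.map_comp _
  have hrange : Set.range (a ≫ f) = Set.range b := by
    have hb : Set.range b = ((PrimeSpectrum.basicOpen g : TopologicalSpace.Opens (PrimeSpectrum B')) : Set (PrimeSpectrum B')) := PrimeSpectrum.localization_away_comap_range _ g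
    have ha : Set.range a = ((PrimeSpectrum.basicOpen (φ g) : TopologicalSpace.Opens (PrimeSpectrum B)) : Set (PrimeSpectrum B)) := PrimeSpectrum.localization_away_comap_range _ (φ g)
    have hpre : ∀ x, (x ∈ (PrimeSpectrum.basicOpen (φ g) : Set (PrimeSpectrum B))) ↔ f x ∈ (PrimeSpectrum.basicOpen g : Set (PrimeSpectrum B')) := fun x => Iff.rfl
    rw [hb]
    ext y
    constructor
    · rintro ⟨x, rfl⟩
      exact (hpre _).1 (ha.subset ⟨x, rfl⟩)
    · intro hy
      obtain ⟨x, rfl⟩ := hsub hy
      obtain ⟨z, hz⟩ := ha.superset ((hpre x).2 hy)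
      exact ⟨z, by rw [Scheme.Hom.comp_apply, hz]⟩
  haveI : IsOpenImmersion a := inferInstanceAs (IsOpenImmersion (Spec.map _))
  haveI : IsOpenImmersion b := inferInstanceAs (IsOpenImmersion (Spec.map _))
  let i := IsOpenImmersion.isoOfRangeEq (a ≫ f) b hrange
  have hi : i.hom = Spec.map (CommRingCat.ofHom ψ) := by
    rw [← cancel_mono b, IsOpenImmersion.isoOfRangeEq_hom_fac, hsq]
  haveI : IsIso (Spec.map (CommRingCat.ofHom ψ)) := hi ▸ inferInstance
  haveI : IsIso (CommRingCat.ofHom ψ) := by
    have h1 : IsIso (Scheme.Spec.map (CommRingCat.ofHom ψ).op) := ‹IsIso (Spec.map (CommRingCat.ofHom ψ))›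
    have h2 : IsIso (CommRingCat.ofHom ψ).op := isIso_of_fully_faithful Scheme.Spec _
    exact isIso_of_op _
  exact ConcreteCategory.bijective_of_isIso (CommRingCat.ofHom ψ)

end Groth.Agent.OmegaCI
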