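import Groth.Prelude.Def_QFDual
import Groth.Agent.OmegaCI.Descent
import Groth.Agent.OmegaCI.OpenImm
import Groth.Agent.GorLib.FieldExt
import Mathlib.RingTheory.Localization.BaseChange

/-!
The dualizing module of a flat quasi-finite algebra with Gorenstein fibres is invertible.
-/

set_option autoImplicit false
set_option linter.style.haveILetI false

universe u

open TensorProduct

namespace Groth.Agent.OmegaCI

variable {A B' B : Type u} [CommRing A] [IsNoetherianRing A] [CommRing B'] [CommRing B] [Algebra A B']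
  [Algebra B' B] [Algebra A B] [IsScalarTower A B' B]

theorem finite_omega_of_noetherian [Module.Finite A B'] : Module.Finite B' (Disc.Omega A B') := by
  classical
  obtain ⟨T, hT⟩ := Module.Finite.fg_top (R := A) (M := Module.Dual A B')
  refine ⟨⟨T.image fun f => (⟨f⟩ : Disc.Omega A B'), eq_top_iff.2 fun φ _ => ?_⟩⟩
  obtain ⟨c, hc⟩ := Submodule.mem_span_finset.1
    (hT ▸ Submodule.mem_top : φ.toLinearMap ∈ Submodule.span A (T : Set (Module.Dual A B')))
  have : φ = ∑ f ∈ T, algebraMap A B' (c f) • (⟨f⟩ : Disc.Omega A B') := by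
    apply Disc.Omega.ext
    refine LinearMap.ext fun x => ?_
    rw [omega_sum_apply, ← hc.2]
    simp only [omega_algebraMap_smul, LinearMap.sum_apply, LinearMap.smul_apply, smul_eq_mul]
  rw [this]
  exact Submodule.sum_mem _ fun f hf => Submodule.smul_mem _ _
    (Submodule.subset_span (Finset.mem_image_of_mem _ hf))

/-- Near a basic open on which `B'` and `B` agree the point `q'` is flat with Gorenstein fibre. -/
theorem flat_and_socPrincipal_of_awayMap [Module.Finite A B'] [Module.Flat A B]
    (hG : ∀ (p : Ideal A) [p.IsPrime], LocCoh.IsGorensteinRing (p.Fiber B))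
    (g : B') (hbij : Function.Bijective (Localization.awayMap (algebraMap B' B) g))
    (q' : Ideal B') [q'.IsPrime] (hg : g ∉ q') (p : Ideal A) [p.IsPrime] [q'.LiesOver p] :
    Module.Flat A (Localization.AtPrime q') ∧ ∀ Q : Ideal (p.Fiber B'), Q.IsMaximal →
      Q.comap (Algebra.TensorProduct.includeRight : B' →ₐ[A] p.Fiber B') = q' → SocPrincipal Q := by
  classical
  let Bg' := Localization.Away g
  let Bg := Localization.Away (algebraMap B' B g)
  let ψ : Bg' →ₐ[A] Bg :=
    { Localization.awayMap (algebraMap B' B) g with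
      commutes' := fun a => by
        show Localization.awayMap (algebraMap B' B) g (algebraMap A Bg' a) = algebraMap A Bg a
        rw [IsScalarTower.algebraMap_apply A B' Bg', IsScalarTower.algebraMap_apply A B Bg,
          Localization.awayMap, IsLocalization.Away.map, IsLocalization.map_eq,
          ← IsScalarTower.algebraMap_apply A B' B] }
  let e : Bg' ≃ₐ[A] Bg := AlgEquiv.ofBijective ψ hbij
  haveI : Module.Flat A Bg := Module.Flat.trans A B Bg
  haveI : Module.Flat A Bg' := Module.Flat.of_linearEquiv e.toLinearEquiv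
  have hle : Submonoid.powers g ≤ q'.primeCompl := by
    rw [Submonoid.powers_le]; exact hg
  letI : Algebra Bg' (Localization.AtPrime q') :=
    (IsLocalization.lift (M := Submonoid.powers g) (g := algebraMap B' (Localization.AtPrime q'))
      fun s => IsLocalization.map_units (Localization.AtPrime q') (⟨s.1, hle s.2⟩ : q'.primeCompl)).toAlgebra
  haveI : IsScalarTower B' Bg' (Localization.AtPrime q') := IsScalarTower.of_algebraMap_eq fun x => by
    rw [RingHom.algebraMap_toAlgebra, IsLocalization.lift_eq]
  haveI : IsScalarTower A Bg' (Localization.AtPrime q') := IsScalarTower.of_algebraMap_eq fun x => by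
    rw [IsScalarTower.algebraMap_apply A B' (Localization.AtPrime q'),
      IsScalarTower.algebraMap_apply B' Bg' (Localization.AtPrime q'),
      ← IsScalarTower.algebraMap_apply A B' Bg']
  haveI := IsLocalization.isLocalization_of_submonoid_le Bg' (Localization.AtPrime q') (Submonoid.powers g)
    q'.primeCompl hle
  haveI : Module.Flat Bg' (Localization.AtPrime q') :=
    IsLocalization.flat (Localization.AtPrime q') (q'.primeCompl.map (algebraMap B' Bg'))
  refine ⟨Module.Flat.trans A Bg' (Localization.AtPrime q'), fun Q hQ hQq => ?_⟩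
  haveI := hQ
  let K := p.ResidueField
  haveI : IsArtinianRing (p.Fiber B') := IsArtinianRing.of_finite K (p.Fiber B')
  -- the fibres over the basic open
  haveI := hG p
  letI : Algebra (p.Fiber B) (K ⊗[A] Bg) :=
    (Algebra.TensorProduct.map (AlgHom.id K K) (IsScalarTower.toAlgHom A B Bg)).toAlgebra
  haveI : IsScalarTower K (p.Fiber B) (K ⊗[A] Bg) := IsScalarTower.of_algebraMap_eq
    (R := K) (S := p.Fiber B) (A := K ⊗[A] Bg) fun x =>
      ((Algebra.TensorProduct.map (AlgHom.id K K) (IsScalarTower.toAlgHom A B Bg)).commutes x).symm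
  haveI := IsLocalization.tensorProduct_tensorProduct_right A K (Submonoid.powers (algebraMap B' B g)) Bg
    (by ext; simp [RingHom.algebraMap_toAlgebra])
  haveI : LocCoh.IsGorensteinRing (K ⊗[A] Bg) := GorLib.isGorensteinRing_of_isLocalization (S := p.Fiber B)
    (T := K ⊗[A] Bg) ((Submonoid.powers (algebraMap B' B g)).map (Algebra.TensorProduct.includeRight (R := A) (A := K)))
  haveI : LocCoh.IsGorensteinRing (K ⊗[A] Bg') := SegreOne.isGorensteinRing_of_ringEquiv
    (Algebra.TensorProduct.congr (AlgEquiv.refl : K ≃ₐ[A] K) e.symm).toRingEquiv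
  letI : Algebra (p.Fiber B') (K ⊗[A] Bg') :=
    (Algebra.TensorProduct.map (AlgHom.id K K) (IsScalarTower.toAlgHom A B' Bg')).toAlgebra
  haveI : IsScalarTower K (p.Fiber B') (K ⊗[A] Bg') := IsScalarTower.of_algebraMap_eq
    (R := K) (S := p.Fiber B') (A := K ⊗[A] Bg') fun x =>
      ((Algebra.TensorProduct.map (AlgHom.id K K) (IsScalarTower.toAlgHom A B' Bg')).commutes x).symm
  haveI := IsLocalization.tensorProduct_tensorProduct_right A K (Submonoid.powers g) Bg'
    (by ext; simp [RingHom.algebraMap_toAlgebra])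
  let Mo : Submonoid (p.Fiber B') :=
    (Submonoid.powers g).map (Algebra.TensorProduct.includeRight (R := A) (A := K))
  have hdisj : Disjoint (Mo : Set (p.Fiber B')) (Q : Set (p.Fiber B')) := by
    rw [Set.disjoint_left]
    rintro _ ⟨s, hs, rfl⟩ hsQ
    exact hle hs (hQq ▸ hsQ : s ∈ q')
  let Q₁ : Ideal (K ⊗[A] Bg') := Q.map (algebraMap (p.Fiber B') (K ⊗[A] Bg'))
  haveI : Q₁.IsPrime := IsLocalization.isPrime_of_isPrime_disjoint Mo (K ⊗[A] Bg') Q inferInstance hdisj
  have hcomap : Q₁.under (p.Fiber B') = Q :=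
    IsLocalization.under_map_of_isPrime_disjoint Mo (K ⊗[A] Bg') inferInstance hdisj
  haveI : IsLocalization.AtPrime (Localization.AtPrime Q₁) (Q₁.comap (algebraMap (p.Fiber B') (K ⊗[A] Bg'))) :=
    IsLocalization.isLocalization_isLocalization_atPrime_isLocalization Mo (Localization.AtPrime Q₁) Q₁
  have e1 : Localization.AtPrime Q₁ ≃+* Localization.AtPrime Q := by
    have h1 : (Q₁.comap (algebraMap (p.Fiber B') (K ⊗[A] Bg'))).primeCompl = Q.primeCompl := by
      ext x
      exact not_congr (SetLike.ext_iff.1 hcomap x)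
    haveI : IsLocalization Q.primeCompl (Localization.AtPrime Q₁) := h1 ▸ ‹IsLocalization.AtPrime (Localization.AtPrime Q₁) _›
    exact (IsLocalization.algEquiv Q.primeCompl (Localization.AtPrime Q₁) (Localization.AtPrime Q)).toRingEquiv
  haveI := LocCoh.IsGorensteinRing.isGorensteinLocalRing_localization Q₁
  haveI : LocCoh.IsGorensteinLocalRing (Localization.AtPrime Q) := SegreOne.isGorensteinLocalRing_of_ringEquiv (A := Localization.AtPrime Q₁) e1
  exact socPrincipal_of_gorenstein Q

/-- Invertibility from principal socles of the fibres. -/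
theorem invertible_omega_of_socPrincipal [IsNoetherianRing B] [Module.Finite A B']
    (h : AlgebraicGeometry.IsOpenImmersion (AlgebraicGeometry.Spec.map (CommRingCat.ofHom (algebraMap B' B))))
    (hS : ∀ g : B', Function.Bijective (Localization.awayMap (algebraMap B' B) g) →
      ∀ (q' : Ideal B') [q'.IsPrime], g ∉ q' → ∀ (p : Ideal A) [p.IsPrime] [q'.LiesOver p],
      Module.Flat A (Localization.AtPrime q') ∧ ∀ Q : Ideal (p.Fiber B'), Q.IsMaximal →
        Q.comap (Algebra.TensorProduct.includeRight : B' →ₐ[A] p.Fiber B') = q' → SocPrincipal Q) :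
    Module.Invertible B (QFDual.omega A B' B) := by
  classical
  haveI := finite_omega_of_noetherian (A := A) (B' := B')
  have hloc : ∀ (q : Ideal B) [q.IsMaximal], ∃ (g : B') (φ : Disc.Omega A B'),
      g ∉ q.comap (algebraMap B' B) ∧ Function.Bijective (Localization.awayMap (algebraMap B' B) g) ∧
      (∀ ψ : Disc.Omega A B', ∃ u ∉ q.comap (algebraMap B' B), ∃ c : B', u • ψ = c • φ) ∧
      (∀ x : B', (∃ u ∉ q.comap (algebraMap B' B), ∀ φ : Disc.Omega A B', (u * x) • φ = 0) →
        ∃ v ∉ q.comap (algebraMap B' B), v * x = 0) ∧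
      ∀ b : B, ∃ U a, U ∉ q.comap (algebraMap B' B) ∧ algebraMap B' B U * b = algebraMap B' B a := by
    intro q _
    obtain ⟨g, hg, hbij⟩ := exists_awayMap_bijective (algebraMap B' B) h q
    let q' := q.comap (algebraMap B' B)
    let p := q'.comap (algebraMap A B')
    haveI : q'.LiesOver p := ⟨rfl⟩
    obtain ⟨hflat, hsoc⟩ := hS g hbij q' hg p
    obtain ⟨⟨φ, hφ⟩, hfaith⟩ := omega_near_flat_gorenstein_point p q' hflat hsoc
    refine ⟨g, φ, hg, hbij, hφ, hfaith, fun b => ?_⟩
    obtain ⟨z, hz⟩ := hbij.2 (algebraMap B (Localization.Away (algebraMap B' B g)) b)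
    obtain ⟨a, ⟨_, k, rfl⟩, rfl⟩ := IsLocalization.exists_mk'_eq (Submonoid.powers g) z
    rw [Localization.awayMap, IsLocalization.Away.map, IsLocalization.map_mk', IsLocalization.mk'_eq_iff_eq_mul,
      ← map_mul] at hz
    obtain ⟨⟨_, m, rfl⟩, hm⟩ := (IsLocalization.eq_iff_exists (Submonoid.powers (algebraMap B' B g)) _).1 hz
    refine ⟨g ^ (m + k), g ^ m * a, fun hc => hg (Ideal.IsPrime.mem_of_pow_mem (I := q.comap (algebraMap B' B)) inferInstance (m + k) hc), ?_⟩
    simp only [map_pow] at hm
    rw [map_mul, map_pow, map_pow, pow_add, hm]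
    ring
  refine invertible_of_local (fun q _ => ?_) fun r hr => ?_
  · obtain ⟨g, φ, -, -, hφ, -, hden⟩ := hloc q
    refine ⟨(1 : B) ⊗ₜ[B'] φ, fun y => ?_⟩
    induction y using TensorProduct.induction_on with
    | zero => exact ⟨1, fun h1 => ‹q.IsMaximal›.ne_top ((Ideal.eq_top_iff_one _).2 h1), 0, by rw [smul_zero, zero_smul]⟩
    | tmul b ψ =>
      obtain ⟨u, hu, c, hc⟩ := hφ ψ
      obtain ⟨U, a, hU, hUb⟩ := hden b
      refine ⟨algebraMap B' B U * algebraMap B' B u, fun h1 => ?_, algebraMap B' B (a * c), ?_⟩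
      · exact (Ideal.IsPrime.mem_or_mem (Ideal.IsMaximal.isPrime ‹_›) h1).elim hU hu
      · rw [TensorProduct.smul_tmul', TensorProduct.smul_tmul', smul_eq_mul, smul_eq_mul, mul_one,
          mul_right_comm, hUb, ← map_mul, Algebra.algebraMap_eq_smul_one, Algebra.algebraMap_eq_smul_one,
          TensorProduct.smul_tmul, TensorProduct.smul_tmul, mul_smul, hc, mul_smul]
    | add y z hy hz =>
      obtain ⟨u, hu, c, hc⟩ := hy
      obtain ⟨v, hv, d, hd⟩ := hz
      refine ⟨u * v, fun h1 => (Ideal.IsPrime.mem_or_mem (Ideal.IsMaximal.isPrime ‹_›) h1).elim hu hv,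
        v * c + u * d, ?_⟩
      rw [smul_add, add_smul, mul_comm u v, mul_smul v u y, hc, mul_comm v u, mul_smul u v z, hd, ← mul_smul, ← mul_smul]
  · by_contra hr0
    have hA : (LinearMap.ker (LinearMap.toSpanSingleton B B r)) ≠ ⊤ := fun ht => hr0 (by
      have h1 : (1 : B) ∈ LinearMap.ker (LinearMap.toSpanSingleton B B r) := ht ▸ Submodule.mem_top
      simpa using h1)
    obtain ⟨q, hq, hle⟩ := Ideal.exists_le_maximal _ hA
    obtain ⟨g, φ, hg, hbij, -, hfaith, hden⟩ := hloc q
    obtain ⟨U, a, hU, hUa⟩ := hden r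
    let eg := RingEquiv.ofBijective (Localization.awayMap (algebraMap B' B) g) hbij
    let toG : B →ₗ[B'] Localization.Away g :=
      { toFun := fun b => eg.symm (algebraMap B (Localization.Away (algebraMap B' B g)) b)
        map_add' := fun x y => by rw [map_add, map_add]
        map_smul' := fun c x => by
          rw [RingHom.id_apply, Algebra.smul_def, map_mul, map_mul, Algebra.smul_def]
          congr 1
          rw [RingEquiv.symm_apply_eq]
          show _ = Localization.awayMap (algebraMap B' B) g (algebraMap B' (Localization.Away g) c)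
          rw [Localization.awayMap, IsLocalization.Away.map, IsLocalization.map_eq] }
    have htoG : toG 1 = 1 := by
      show eg.symm _ = 1
      rw [map_one, map_one]
    haveI : IsLocalizedModule (Submonoid.powers g)
        (TensorProduct.mk B' (Localization.Away g) (Disc.Omega A B') 1) :=
      (isLocalizedModule_iff_isBaseChange (Submonoid.powers g) (Localization.Away g) _).2
        (TensorProduct.isBaseChange B' (Disc.Omega A B') (Localization.Away g))
    have hkill : ∀ ψ : Disc.Omega A B', ∃ k : ℕ, (g ^ k * a) • ψ = 0 := by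
      intro ψ
      have h0 : (1 : B) ⊗ₜ[B'] (a • ψ) = 0 := by
        rw [← TensorProduct.smul_tmul, ← Algebra.algebraMap_eq_smul_one, ← hUa]
        have : (algebraMap B' B U * r) ⊗ₜ[B'] ψ = algebraMap B' B U • r • ((1 : B) ⊗ₜ[B'] ψ) := by
          rw [TensorProduct.smul_tmul', TensorProduct.smul_tmul', smul_eq_mul, smul_eq_mul, mul_one]
        rw [this, hr, smul_zero]
      have h1 := congrArg (toG.rTensor (Disc.Omega A B')) h0
      rw [LinearMap.rTensor_tmul, htoG, map_zero] at h1
      obtain ⟨⟨_, k, rfl⟩, hk⟩ := (IsLocalizedModule.eq_zero_iff (Submonoid.powers g)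
        (TensorProduct.mk B' (Localization.Away g) (Disc.Omega A B') 1)).1 h1
      exact ⟨k, by rw [mul_smul]; exact hk⟩
    choose kf hkf using hkill
    obtain ⟨T, hT⟩ := Module.Finite.fg_top (R := B') (M := Disc.Omega A B')
    let K := T.sup kf
    have hall : ∀ ψ : Disc.Omega A B', (g ^ K * a) • ψ = 0 := by
      intro ψ
      induction (hT ▸ Submodule.mem_top : ψ ∈ Submodule.span B' (T : Set (Disc.Omega A B'))) using Submodule.span_induction with
      | mem y hy =>
        obtain ⟨d, hd⟩ := Nat.exists_eq_add_of_le (Finset.le_sup hy : kf y ≤ K)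
        rw [show K = kf y + d from hd, pow_add, mul_comm (g ^ kf y), mul_assoc, mul_smul, hkf, smul_zero]
      | zero => rw [smul_zero]
      | add y w _ _ hy hw => rw [smul_add, hy, hw, add_zero]
      | smul z y _ hy => rw [smul_comm, hy, smul_zero]
    obtain ⟨v, hv, hv0⟩ := hfaith a ⟨g ^ K, fun hc => hg (Ideal.IsPrime.mem_of_pow_mem (I := q.comap (algebraMap B' B)) inferInstance K hc), hall⟩
    have h2 : algebraMap B' B v * algebraMap B' B U ∈ LinearMap.ker (LinearMap.toSpanSingleton B B r) := by
      rw [LinearMap.mem_ker, LinearMap.toSpanSingleton_apply, smul_eq_mul, mul_assoc, hUa, ← map_mul, hv0, map_zero]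
    exact (Ideal.IsPrime.mem_or_mem (Ideal.IsMaximal.isPrime hq) (hle h2)).elim hv hU

/-- Invertibility from flatness and Gorenstein fibres. -/
theorem invertible_omega_of_gorenstein_fibres [IsNoetherianRing B] [Module.Flat A B] [Module.Finite A B']
    (h : AlgebraicGeometry.IsOpenImmersion (AlgebraicGeometry.Spec.map (CommRingCat.ofHom (algebraMap B' B))))
    (hG : ∀ (p : Ideal A) [p.IsPrime], LocCoh.IsGorensteinRing (p.Fiber B)) :
    Module.Invertible B (QFDual.omega A B' B) :=
  invertible_omega_of_socPrincipal h fun g hbij q' _ hg p _ _ =>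
    flat_and_socPrincipal_of_awayMap hG g hbij q' hg p

end Groth.Agent.OmegaCI
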