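import Groth.Prelude.Def_QFDual
import Groth.Agent.OmegaCI.Global
import Groth.Agent.OmegaCI.BCFlat
import Groth.Agent.OmegaCI.Fibre
import Mathlib.RingTheory.PicardGroup

/-!
Invertibility of the dualizing module is fibrewise.
-/

set_option autoImplicit false
set_option linter.style.haveILetI false

universe u

open TensorProduct Module

namespace Groth.Agent.OmegaCI

/-- An invertible dualizing module gives principal socles where the finite algebra and the algebra agree. -/
theorem socPrincipal_of_invertible_omega {k C' C : Type u} [Field k] [CommRing C'] [CommRing C] [Algebra k C']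
    [Module.Finite k C'] [Algebra C' C] {g : C'} (hiso : AwayIso (C := C) g)
    (h : Module.Invertible C (C ⊗[C'] Disc.Omega k C')) (Q : Ideal C') [Q.IsMaximal] (hg : g ∉ Q) :
    SocPrincipal Q := by
  classical
  obtain ⟨ρ⟩ := hiso.retr
  let L := Localization.Away g
  let QL : Ideal L := Q.map (algebraMap C' L)
  have hdisj : Disjoint (Submonoid.powers g : Set C') (Q : Set C') := by
    rw [Set.disjoint_left]
    rintro _ ⟨n, rfl⟩ hn
    exact hg (Ideal.IsMaximal.isPrime ‹_› |>.mem_of_pow_mem n hn)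
  haveI : QL.IsPrime := IsLocalization.isPrime_of_isPrime_disjoint (Submonoid.powers g) L Q inferInstance hdisj
  have hQL : QL.comap (algebraMap C' L) = Q :=
    IsLocalization.under_map_of_isPrime_disjoint (Submonoid.powers g) L inferInstance hdisj
  let Q₁ : Ideal C := QL.comap ρ.toRingHom
  haveI : Q₁.IsPrime := Ideal.IsPrime.comap _
  let M := C ⊗[C'] Disc.Omega k C'
  haveI := h
  obtain ⟨T, hT⟩ := TensorProduct.exists_finset ((Module.Invertible.linearEquiv C M).symm 1)
  have hT1 : ∑ i ∈ T, i.1 i.2 = 1 := by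
    have h1 := congrArg (Module.Invertible.linearEquiv C M) hT
    rw [LinearEquiv.apply_symm_apply, map_sum] at h1
    rw [h1]
    exact Finset.sum_congr rfl fun x _ => rfl
  obtain ⟨i, hi, hin⟩ : ∃ i ∈ T, i.1 i.2 ∉ Q₁ := by
    by_contra hc
    push Not at hc
    exact Ideal.IsPrime.ne_top ‹Q₁.IsPrime› ((Ideal.eq_top_iff_one _).2 (hT1 ▸ Ideal.sum_mem _ hc))
  have hswap : ∀ w : M, i.1 i.2 • w = i.1 w • i.2 := fun w => by
    have h2 : i.2 ⊗ₜ[C] w = w ⊗ₜ[C] i.2 := Module.Invertible.tmul_comm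
    simpa using congrArg (fun t => TensorProduct.lid C _ (i.1.rTensor _ t)) h2
  let G := algebraMap C' C g
  obtain ⟨k₀, φ, hφ⟩ := hiso.exists_pow_mul_eq_tmul i.2
  obtain ⟨a, σ, hσ⟩ := hiso.den (i.1 i.2)
  have hσQ : σ ∉ Q := by
    intro hmem
    refine hin ?_
    show ρ (i.1 i.2) ∈ QL
    have h1 : algebraMap C' L g ^ a * ρ (i.1 i.2) = algebraMap C' L σ := by
      rw [← AlgHom.commutes ρ g, ← map_pow, ← map_mul, hσ, AlgHom.commutes]
    refine ((Ideal.unit_mul_mem_iff_mem QL (y := algebraMap C' L g ^ a) ?_).1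
      (h1 ▸ Ideal.mem_map_of_mem _ hmem))
    exact (IsLocalization.Away.algebraMap_isUnit g).pow a
  refine socPrincipal_of_cyclic Q φ fun χ => ?_
  obtain ⟨b, τ, hτ⟩ := hiso.den (i.1 ((1 : C) ⊗ₜ χ))
  have e1 : ∀ (c : C') (m : Disc.Omega k C'), algebraMap C' C c • ((1 : C) ⊗ₜ[C'] m) = (1 : C) ⊗ₜ[C'] (c • m) :=
    fun c m => by
      rw [TensorProduct.smul_tmul', smul_eq_mul, mul_one, Algebra.algebraMap_eq_smul_one, TensorProduct.smul_tmul]
  have e2 : (1 : C) ⊗ₜ[C'] ((σ * g ^ (b + k₀)) • χ) = (1 : C) ⊗ₜ[C'] ((g ^ a * τ) • φ) := by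
    rw [← e1, ← e1, map_mul, map_mul, ← hσ, ← hτ, map_pow, map_pow, ← hφ, smul_smul]
    have := congrArg ((G ^ a * G ^ b * G ^ k₀) • ·) (hswap ((1 : C) ⊗ₜ χ))
    simp only [smul_smul] at this
    convert this using 2 <;> ring
  obtain ⟨l, hl⟩ := hiso.exists_pow_smul_eq_zero ((σ * g ^ (b + k₀)) • χ - (g ^ a * τ) • φ)
    (by rw [TensorProduct.tmul_sub, e2, sub_self])
  refine ⟨g ^ l * (σ * g ^ (b + k₀)), ?_, g ^ l * (g ^ a * τ), ?_⟩
  · have hQ : Q.IsPrime := Ideal.IsMaximal.isPrime ‹_›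
    exact hQ.mul_notMem (fun hh => hg (hQ.mem_of_pow_mem l hh))
      (hQ.mul_notMem hσQ fun hh => hg (hQ.mem_of_pow_mem _ hh))
  · rw [mul_smul (α := C') (β := Disc.Omega k C'), mul_smul (α := C') (β := Disc.Omega k C') (g ^ l)]
    rw [smul_sub, sub_eq_zero] at hl
    exact hl

attribute [local instance] Algebra.TensorProduct.rightAlgebra

variable {A B' B : Type u} [CommRing A] [IsNoetherianRing A] [CommRing B'] [CommRing B] [Algebra A B']
  [Algebra B' B] [Algebra A B] [IsScalarTower A B' B] [Module.Flat A B] [Module.Finite A B']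

theorem invertible_omega_of_fibres [IsNoetherianRing B]
    (hopen : AlgebraicGeometry.IsOpenImmersion (AlgebraicGeometry.Spec.map (CommRingCat.ofHom (algebraMap B' B))))
    (h : ∀ (p : Ideal A) [p.IsPrime] (B'₁ B₁ : Type u) [CommRing B'₁] [CommRing B₁] [Algebra B' B'₁] [Algebra p.ResidueField B'₁] [Algebra A B'₁] [IsScalarTower A p.ResidueField B'₁] [IsScalarTower A B' B'₁] [Algebra B B₁] [Algebra p.ResidueField B₁] [Algebra A B₁] [IsScalarTower A p.ResidueField B₁] [IsScalarTower A B B₁] [Algebra B'₁ B₁] [Algebra B' B₁] [IsScalarTower B' B'₁ B₁] [IsScalarTower B' B B₁] [IsScalarTower p.ResidueField B'₁ B₁], Algebra.IsPushout A p.ResidueField B' B'₁ → Algebra.IsPushout A p.ResidueField B B₁ → Module.Invertible B₁ (QFDual.omega p.ResidueField B'₁ B₁)) :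
    Module.Invertible B (QFDual.omega A B' B) := by
  refine invertible_omega_of_socPrincipal hopen fun g hbij q' _ hg p _ _ =>
    ⟨flat_atPrime_of_awayMap g hbij q' hg, fun Q hQ hQq => ?_⟩
  let K := p.ResidueField
  let f := Algebra.TensorProduct.map (AlgHom.id K K) (IsScalarTower.toAlgHom A B' B)
  letI : Algebra (p.Fiber B') (p.Fiber B) := f.toAlgebra
  letI : Algebra B' (p.Fiber B) :=
    ((algebraMap B (p.Fiber B)).comp (algebraMap B' B)).toAlgebra
  haveI : IsScalarTower B' B (p.Fiber B) := IsScalarTower.of_algebraMap_eq' rfl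
  haveI : IsScalarTower B' (p.Fiber B') (p.Fiber B) := IsScalarTower.of_algebraMap_eq fun x => by
    show (1 : K) ⊗ₜ[A] algebraMap B' B x = f ((1 : K) ⊗ₜ[A] x)
    simp [f]
  haveI : IsScalarTower K (p.Fiber B') (p.Fiber B) := IsScalarTower.of_algebraMap_eq
    (R := K) (S := p.Fiber B') (A := p.Fiber B) fun x => (f.commutes x).symm
  have hD' : Algebra.IsPushout A K B' (p.Fiber B') := inferInstance
  have hD : Algebra.IsPushout A K B (p.Fiber B) := inferInstance
  have hinv := h p (p.Fiber B') (p.Fiber B) hD' hD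
  haveI := hQ
  exact socPrincipal_of_invertible_omega ((awayIso_of_bijective hbij).baseChange hD' hD) hinv Q
    fun hh => hg (hQq ▸ hh)

omit [IsNoetherianRing A] in
theorem invertible_omega_fibre [IsNoetherianRing A]
    (hopen : AlgebraicGeometry.IsOpenImmersion (AlgebraicGeometry.Spec.map (CommRingCat.ofHom (algebraMap B' B))))
    (h : Module.Invertible B (QFDual.omega A B' B))
    {A₁ B'₁ B₁ : Type u} [CommRing A₁] [CommRing B'₁] [CommRing B₁] [Algebra A A₁]
    [Algebra B' B'₁] [Algebra A₁ B'₁] [Algebra A B'₁] [IsScalarTower A A₁ B'₁] [IsScalarTower A B' B'₁]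
    [Algebra B B₁] [Algebra A₁ B₁] [Algebra A B₁] [IsScalarTower A A₁ B₁] [IsScalarTower A B B₁]
    [Algebra B'₁ B₁] [Algebra B' B₁] [IsScalarTower B' B'₁ B₁] [IsScalarTower B' B B₁]
    [IsScalarTower A₁ B'₁ B₁]
    (h' : Algebra.IsPushout A A₁ B' B'₁) (hB : Algebra.IsPushout A A₁ B B₁) :
    Module.Invertible B₁ (QFDual.omega A₁ B'₁ B₁) := by
  haveI : Module.Invertible B₁ (B₁ ⊗[B] QFDual.omega A B' B) := inferInstance
  exact Module.Invertible.congr ((TensorProduct.AlgebraTensorModule.cancelBaseChange B' B B₁ B₁ (Disc.Omega A B')) ≪≫ₗ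
    LinearEquiv.ofBijective _ (omegaBC_bijective_of_flat (B₁ := B₁) hopen h' hB))

end Groth.Agent.OmegaCI
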