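import Groth.Agent.OmegaCI.Finite
import Groth.Agent.HenselLib.TFAE
import Groth.Agent.HenselLib.Local
import Mathlib.RingTheory.LocalRing.Module

/-!
The dualizing module of a finite algebra over a henselian local ring at a flat Gorenstein point.
-/

set_option autoImplicit false
set_option linter.style.haveILetI false

universe u

open IsLocalRing

namespace Groth.Agent.OmegaCI

theorem henselian_step {R T : Type u} [CommRing R] [IsLocalRing R] [HenselianRing R (maximalIdeal R)]
    [CommRing T] [Algebra R T] [Module.Finite R T] (n : Ideal T) [n.IsMaximal]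
    (hflat : Module.Flat R (Localization.AtPrime n))
    (hsoc : SocPrincipal (n.map (Ideal.Quotient.mk ((maximalIdeal R).map (algebraMap R T))))) :
    (∃ φ : Disc.Omega R T, ∀ ψ : Disc.Omega R T,
        ψ ∈ Submodule.span T {φ} ⊔ n • (⊤ : Submodule T (Disc.Omega R T))) ∧
      ∀ x : T, (∀ χ : Disc.Omega R T, x • χ = 0) → ∃ v ∉ n, v * x = 0 := by
  classical
  haveI : Algebra.IsIntegral R T := Algebra.IsIntegral.of_finite R T
  have hlift : Set.SurjOn (Ideal.Quotient.mk ((maximalIdeal R).map (algebraMap R T)))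
      {e : T | IsIdempotentElem e} {e | IsIdempotentElem e} := by
    intro ē hē
    obtain ⟨x, rfl⟩ := Ideal.Quotient.mk_surjective ē
    obtain ⟨e, he, hex⟩ := HenselLib.exists_idem (maximalIdeal R) (B := T) (x := x) (by
      rw [sq, ← Ideal.Quotient.eq_zero_iff_mem, map_sub, map_mul, sub_eq_zero]; exact hē)
    exact ⟨e, he, Ideal.Quotient.eq.2 hex⟩
  obtain ⟨e, he, hen, heN⟩ := HenselLib.exists_separating_idem hlift n
  let K : Ideal T := Ideal.span {1 - e}
  have heK : ∀ x ∈ K, e * x = 0 := by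
    intro x hx
    obtain ⟨c, rfl⟩ := Ideal.mem_span_singleton'.1 hx
    linear_combination (-c) * he.eq
  have h1e : 1 - e ∈ n := by
    rcases Ideal.IsPrime.mem_or_mem (Ideal.IsMaximal.isPrime ‹n.IsMaximal›)
      (show e * (1 - e) ∈ n by rw [mul_sub, mul_one, he.eq, sub_self]; exact n.zero_mem) with h | h
    · exact absurd h hen
    · exact h
  have hKn : K ≤ n := (Ideal.span_singleton_le_iff_mem n).2 h1e
  let T₁ := T ⧸ K
  let π := Ideal.Quotient.mkₐ R K
  -- `T₁` is the local ring at `n`
  haveI : IsLocalization n.primeCompl T₁ := by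
    refine ⟨⟨?_, ?_, ?_⟩⟩
    · rintro ⟨s, hs⟩
      by_contra hu
      obtain ⟨N, hN, hmem⟩ := exists_max_ideal_of_mem_nonunits hu
      have hN' : (N.comap (Ideal.Quotient.mk K)).IsMaximal :=
        Ideal.comap_isMaximal_of_surjective _ Ideal.Quotient.mk_surjective
      have heq : N.comap (Ideal.Quotient.mk K) = n := by
        by_contra hne
        have h := heN _ hN' hne
        have h2 : (1 - e) ∈ N.comap (Ideal.Quotient.mk K) := by
          show Ideal.Quotient.mk K (1 - e) ∈ N
          rw [Ideal.Quotient.eq_zero_iff_mem.2 (Ideal.mem_span_singleton_self _)]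
          exact N.zero_mem
        exact hN'.ne_top ((Ideal.eq_top_iff_one _).2 (by simpa using add_mem h h2))
      exact hs (heq ▸ hmem)
    · intro z
      obtain ⟨z, rfl⟩ := Ideal.Quotient.mk_surjective z
      exact ⟨(z, 1), by simp; rfl⟩
    · intro x y hxy
      refine ⟨⟨e, hen⟩, sub_eq_zero.1 ?_⟩
      show e * x - e * y = 0
      rw [← mul_sub]
      exact heK _ (Ideal.Quotient.eq.1 hxy)
  haveI : Module.Flat R T₁ := Module.Flat.of_linearEquiv
    ((IsLocalization.algEquiv n.primeCompl T₁ (Localization.AtPrime n)).restrictScalars R).toLinearEquiv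
  haveI : Module.Finite R T₁ := Module.Finite.of_surjective π.toLinearMap Ideal.Quotient.mk_surjective
  haveI : Module.Free R T₁ := Module.free_of_flat_of_isLocalRing
  let n₁ : Ideal T₁ := n.map (Ideal.Quotient.mk K)
  haveI : n₁.IsMaximal := Ideal.IsMaximal.map_of_surjective_of_ker_le Ideal.Quotient.mk_surjective
    (by rw [Ideal.mk_ker]; exact hKn)
  let m := maximalIdeal R
  have hmn : m.map (algebraMap R T) ≤ n := Ideal.map_le_iff_le_comap.2
    (IsLocalRing.eq_maximalIdeal (Ideal.isMaximal_comap_of_isIntegral_of_isMaximal n)).ge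
  have hmn₁ : m.map (algebraMap R T₁) ≤ n₁ := by
    show m.map ((Ideal.Quotient.mk K).comp (algebraMap R T)) ≤ _
    rw [← Ideal.map_map]
    exact Ideal.map_mono hmn
  -- the socle of the closed fibre of `T₁`
  have hsoc₁ : SocPrincipal (n₁.map (Ideal.Quotient.mk (m.map (algebraMap R T₁)))) := by
    obtain ⟨s₀, hs₀, hgen⟩ := hsoc
    let θ : (T ⧸ m.map (algebraMap R T)) →+* T₁ ⧸ m.map (algebraMap R T₁) :=
      Ideal.Quotient.lift _ ((Ideal.Quotient.mk _).comp (Ideal.Quotient.mk K)) fun x hx => by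
        rw [RingHom.comp_apply, Ideal.Quotient.eq_zero_iff_mem]
        show _ ∈ m.map ((Ideal.Quotient.mk K).comp (algebraMap R T))
        rw [← Ideal.map_map]
        exact Ideal.mem_map_of_mem _ hx
    have hθ : Function.Surjective θ := Ideal.Quotient.lift_surjective_of_surjective _ _
      (Ideal.Quotient.mk_surjective.comp Ideal.Quotient.mk_surjective)
    let ē : T ⧸ m.map (algebraMap R T) := Ideal.Quotient.mk _ e
    have hθe : θ ē = 1 := by
      show Ideal.Quotient.mk _ (Ideal.Quotient.mk K e) = 1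
      rw [← map_one (Ideal.Quotient.mk (m.map (algebraMap R T₁))), ← map_one (Ideal.Quotient.mk K)]
      exact congrArg _ (Ideal.Quotient.eq.2 (Ideal.mem_span_singleton'.2 ⟨-1, by ring⟩))
    have hkill : ∀ z, θ z = 0 → ē * z = 0 := by
      intro z hz
      obtain ⟨z, rfl⟩ := Ideal.Quotient.mk_surjective z
      have h1 : Ideal.Quotient.mk K z ∈ m.map ((Ideal.Quotient.mk K).comp (algebraMap R T)) :=
        Ideal.Quotient.eq_zero_iff_mem.1 hz
      rw [← Ideal.map_map, Ideal.mem_map_iff_of_surjective _ Ideal.Quotient.mk_surjective] at h1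
      obtain ⟨w, hw, hwz⟩ := h1
      show Ideal.Quotient.mk _ (e * z) = 0
      rw [Ideal.Quotient.eq_zero_iff_mem]
      have h2 := heK _ (Ideal.Quotient.eq.1 hwz)
      rw [mul_sub, sub_eq_zero] at h2
      rw [← h2]
      exact Ideal.mul_mem_left _ _ hw
    have hn₁ : n₁.map (Ideal.Quotient.mk (m.map (algebraMap R T₁))) =
        (n.map (Ideal.Quotient.mk (m.map (algebraMap R T)))).map θ := by
      rw [Ideal.map_map, Ideal.map_map]; rfl
    rw [hn₁]
    refine ⟨θ s₀, fun y hy => ?_, fun b hb => ?_⟩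
    · obtain ⟨y, hy', rfl⟩ := (Ideal.mem_map_iff_of_surjective θ hθ).1 hy
      rw [← map_mul, hs₀ y hy', map_zero]
    · obtain ⟨b, rfl⟩ := hθ b
      obtain ⟨c, hc⟩ := hgen (ē * b) fun y hy => by
        rw [mul_left_comm]
        exact hkill _ (by rw [map_mul]; exact hb _ (Ideal.mem_map_of_mem θ hy))
      exact ⟨θ c, by rw [← map_mul, ← hc, map_mul, hθe, one_mul]⟩
  obtain ⟨φ₁, hφ₁⟩ := omega_local_gen n₁ m hmn₁ hsoc₁
  -- forms on `T₁` as forms on `T`
  let P : Disc.Omega R T₁ →+ Disc.Omega R T :=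
    AddMonoidHom.mk' (fun χ => ⟨χ.toLinearMap ∘ₗ π.toLinearMap⟩) fun _ _ => rfl
  have hPsmul : ∀ (x : T) (χ : Disc.Omega R T₁), P (Ideal.Quotient.mk K x • χ) = x • P χ := fun x χ => by
    apply Disc.Omega.ext
    refine LinearMap.ext fun y => ?_
    show χ.toLinearMap (Ideal.Quotient.mk K x * Ideal.Quotient.mk K y) = χ.toLinearMap (Ideal.Quotient.mk K (x * y))
    exact congrArg χ.toLinearMap (map_mul _ x y).symm
  have hsplit : ∀ ψ : Disc.Omega R T, ∃ χ, P χ = e • ψ := fun ψ => by
    refine ⟨⟨(K.restrictScalars R).liftQ (e • ψ).toLinearMap fun x hx => ?_⟩, rfl⟩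
    rw [LinearMap.mem_ker, Disc.Omega.smul_toLinearMap_apply, heK x hx, map_zero]
  refine ⟨⟨P φ₁, fun ψ => ?_⟩, fun x hx => ?_⟩
  · let W := Submodule.span T {P φ₁} ⊔ n • (⊤ : Submodule T (Disc.Omega R T))
    have hW : ∀ χ, P χ ∈ W := by
      intro χ
      obtain ⟨a, ha, b, hb, rfl⟩ := Submodule.mem_sup.1 (hφ₁ χ)
      rw [map_add]
      refine W.add_mem ?_ ?_
      · obtain ⟨c, rfl⟩ := Submodule.mem_span_singleton.1 ha
        obtain ⟨c, rfl⟩ := Ideal.Quotient.mk_surjective c
        rw [hPsmul]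
        exact Submodule.mem_sup_left (Submodule.smul_mem _ _ (Submodule.mem_span_singleton_self _))
      · refine Submodule.mem_sup_right ?_
        refine Submodule.smul_induction_on hb (fun r hr y _ => ?_) (fun y z hy hz => ?_)
        · obtain ⟨r, hr', rfl⟩ := (Ideal.mem_map_iff_of_surjective _ Ideal.Quotient.mk_surjective).1 hr
          rw [hPsmul]
          exact Submodule.smul_mem_smul hr' trivial
        · rw [map_add]; exact add_mem hy hz
    obtain ⟨χ, hχ⟩ := hsplit ψ
    have h2 : ψ = P χ + (1 - e) • ψ := by rw [hχ, sub_smul, one_smul, add_sub_cancel]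
    rw [h2]
    exact W.add_mem (hW χ) (Submodule.mem_sup_right (Submodule.smul_mem_smul h1e trivial))
  · refine ⟨e, hen, ?_⟩
    have h1 : Ideal.Quotient.mk K x = 0 := omega_faithful (A := R) (B := T₁) _ fun χ => by
      apply Disc.Omega.ext
      refine LinearMap.ext fun y => ?_
      obtain ⟨y, rfl⟩ := Ideal.Quotient.mk_surjective y
      have := congrArg (fun ω : Disc.Omega R T => ω.toLinearMap y) (hx (P χ))
      rw [← hPsmul] at this
      exact this
    exact heK _ (Ideal.Quotient.eq_zero_iff_mem.1 h1)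

end Groth.Agent.OmegaCI
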