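import Groth.Prelude.Def_QFDual
import Groth.Agent.OmegaCI.DualBaseChange
import Mathlib.LinearAlgebra.TensorProduct.Tower

/-!
The base change map of the dualizing module along a flat base change.
-/

set_option autoImplicit false

universe u

open TensorProduct

namespace Groth.Agent.OmegaCI

variable {A B' A₁ B'₁ : Type u} [CommRing A] [CommRing B'] [CommRing A₁] [CommRing B'₁] [IsNoetherianRing A]
  [Algebra A B'] [Module.Finite A B'] [Algebra A A₁] [Module.Flat A A₁] [Algebra B' B'₁] [Algebra A₁ B'₁]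
  [Algebra A B'₁] [IsScalarTower A A₁ B'₁] [IsScalarTower A B' B'₁]

/-- `bcFin` extends to a linear map out of the scalar extension. -/
noncomputable def bcExt (h : Algebra.IsPushout A A₁ B' B'₁) :
    B'₁ ⊗[B'] Disc.Omega A B' →ₗ[B'₁] Disc.Omega A₁ B'₁ :=
  letI := Module.compHom (Disc.Omega A₁ B'₁) (algebraMap B' B'₁)
  haveI : IsScalarTower B' B'₁ (Disc.Omega A₁ B'₁) := IsScalarTower.of_algebraMap_smul fun _ _ => rfl
  LinearMap.liftBaseChange B'₁
    { toFun := QFDual.bcFin h
      map_add' := map_add (QFDual.bcFin h)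
      map_smul' := fun c φ => (QFDual.bcFin h).map_smulₛₗ c φ }

theorem bcExt_tmul (h : Algebra.IsPushout A A₁ B' B'₁) (b : B'₁) (φ : Disc.Omega A B') :
    bcExt h (b ⊗ₜ φ) = b • QFDual.bcFin h φ := rfl

theorem bcExt_bijective (h : Algebra.IsPushout A A₁ B' B'₁) : Function.Bijective (bcExt h) := by
  classical
  let e : A₁ ⊗[A] B' ≃ₗ[A₁] B'₁ := h.out.equiv
  have he : ∀ (r : A₁) (b : B'), e (r ⊗ₜ b) = r • algebraMap B' B'₁ b := fun r b => h.out.equiv_tmul r b
  let T : Disc.Omega A₁ (A₁ ⊗[A] B') → Disc.Omega A₁ B'₁ := fun χ => ⟨χ.toLinearMap ∘ₗ e.symm.toLinearMap⟩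
  have hT : Function.Bijective T := by
    constructor
    · intro χ χ' hh
      apply Disc.Omega.ext
      refine LinearMap.ext fun z => ?_
      have := congrArg (fun ω : Disc.Omega A₁ B'₁ => ω.toLinearMap (e z)) hh
      simpa [T] using this
    · intro ω
      refine ⟨⟨ω.toLinearMap ∘ₗ e.toLinearMap⟩, ?_⟩
      apply Disc.Omega.ext
      refine LinearMap.ext fun z => ?_
      simp [T]
  let pre : A₁ ⊗[A] (B' →ₗ[A] A) →+ B'₁ ⊗[B'] Disc.Omega A B' :=
    TensorProduct.liftAddHom
      (AddMonoidHom.mk' (fun r => AddMonoidHom.mk'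
          (fun f => algebraMap A₁ B'₁ r ⊗ₜ[B'] (⟨f⟩ : Disc.Omega A B')) fun f g => by
        rw [← TensorProduct.tmul_add]; rfl) fun r s => by
        ext f : 1
        exact (congrArg (· ⊗ₜ[B'] (⟨f⟩ : Disc.Omega A B')) (map_add _ r s)).trans (TensorProduct.add_tmul _ _ _))
      fun a r f => by
        show algebraMap A₁ B'₁ (a • r) ⊗ₜ[B'] (⟨f⟩ : Disc.Omega A B') =
          algebraMap A₁ B'₁ r ⊗ₜ[B'] (⟨a • f⟩ : Disc.Omega A B')
        have e1 : (⟨a • f⟩ : Disc.Omega A B') = algebraMap A B' a • (⟨f⟩ : Disc.Omega A B') := by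
          apply Disc.Omega.ext
          refine LinearMap.ext fun y => ?_
          show a * f y = f (algebraMap A B' a * y)
          rw [← Algebra.smul_def, map_smul, smul_eq_mul]
        rw [e1, ← TensorProduct.smul_tmul]
        congr 1
        rw [Algebra.smul_def a r, map_mul, ← IsScalarTower.algebraMap_apply, Algebra.smul_def,
          ← IsScalarTower.algebraMap_apply]
  have hcomp : ∀ t, bcExt h (pre t) = T (omegaPhi A₁ t) := by
    intro t
    induction t using TensorProduct.induction_on with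
    | zero =>
      rw [map_zero, map_zero, map_zero]
      apply Disc.Omega.ext
      exact LinearMap.ext fun z => rfl
    | tmul r f =>
      apply Disc.Omega.ext
      refine h.out.algHom_ext _ _ fun x => ?_
      show (algebraMap A₁ B'₁ r • QFDual.bcFin h (⟨f⟩ : Disc.Omega A B')).toLinearMap (algebraMap B' B'₁ x) =
        (omegaPhi A₁ (r ⊗ₜ f)).toLinearMap (e.symm (algebraMap B' B'₁ x))
      have : e.symm (algebraMap B' B'₁ x) = 1 ⊗ₜ x := (LinearEquiv.symm_apply_eq e).2 (by rw [he, one_smul])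
      rw [this, omegaPhi_apply_tmul, mul_one, Disc.Omega.smul_toLinearMap_apply, ← Algebra.smul_def, map_smul,
        QFDual.bcFin_apply_algebraMap, smul_eq_mul]
    | add a b ha hb =>
      rw [map_add, map_add, map_add, ha, hb]
      apply Disc.Omega.ext
      exact LinearMap.ext fun z => rfl
  have hpre : Function.Surjective pre := by
    intro z
    induction z using TensorProduct.induction_on with
    | zero => exact ⟨0, map_zero _⟩
    | add a b ha hb =>
      obtain ⟨x, rfl⟩ := ha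
      obtain ⟨y, rfl⟩ := hb
      exact ⟨x + y, map_add _ _ _⟩
    | tmul b φ =>
      obtain ⟨w, rfl⟩ := e.surjective b
      induction w using TensorProduct.induction_on with
      | zero => exact ⟨0, by rw [map_zero, map_zero, TensorProduct.zero_tmul]⟩
      | add u v hu hv =>
        obtain ⟨x, hx⟩ := hu
        obtain ⟨y, hy⟩ := hv
        exact ⟨x + y, by rw [map_add, hx, hy, map_add, TensorProduct.add_tmul]⟩
      | tmul r c =>
        refine ⟨r ⊗ₜ (c • φ).toLinearMap, ?_⟩
        show algebraMap A₁ B'₁ r ⊗ₜ[B'] (c • φ) = _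
        rw [← TensorProduct.smul_tmul, he, Algebra.smul_def c, Algebra.smul_def r, mul_comm]
  have hb := hT.comp (omegaPhi_bijective (A := A) (B := B') A₁)
  constructor
  · intro x y hxy
    obtain ⟨x, rfl⟩ := hpre x
    obtain ⟨y, rfl⟩ := hpre y
    rw [hcomp, hcomp] at hxy
    rw [hb.1 hxy]
  · intro z
    obtain ⟨t, ht⟩ := hb.2 z
    exact ⟨pre t, (hcomp t).trans ht⟩

theorem omegaBC_bijective {B₁ : Type u} [CommRing B₁] [Algebra B'₁ B₁] [Algebra B' B₁]
    [IsScalarTower B' B'₁ B₁] (h : Algebra.IsPushout A A₁ B' B'₁) :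
    Function.Bijective (QFDual.omegaBC (B₁ := B₁) h) := by
  let E : B'₁ ⊗[B'] Disc.Omega A B' ≃ₗ[B'₁] Disc.Omega A₁ B'₁ := LinearEquiv.ofBijective _ (bcExt_bijective h)
  let F : B₁ ⊗[B'] Disc.Omega A B' ≃ₗ[B₁] B₁ ⊗[B'₁] Disc.Omega A₁ B'₁ :=
    (TensorProduct.AlgebraTensorModule.cancelBaseChange B' B'₁ B₁ B₁ (Disc.Omega A B')).symm ≪≫ₗ
      TensorProduct.AlgebraTensorModule.congr (LinearEquiv.refl B₁ B₁) E
  have : QFDual.omegaBC (B₁ := B₁) h = F.toLinearMap := by
    refine TensorProduct.AlgebraTensorModule.ext fun b φ => ?_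
    rw [QFDual.omegaBC_tmul]
    show _ = TensorProduct.AlgebraTensorModule.congr (LinearEquiv.refl B₁ B₁) E
      ((TensorProduct.AlgebraTensorModule.cancelBaseChange B' B'₁ B₁ B₁ (Disc.Omega A B')).symm (b ⊗ₜ φ))
    simp [E, bcExt_tmul]
  rw [this]
  exact F.bijective

end Groth.Agent.OmegaCI
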