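import Groth.Prelude.Def_Disc
import Mathlib.LinearAlgebra.Dual.Lemmas
import Mathlib.RingTheory.Kaehler.Basic
import Mathlib.RingTheory.PicardGroup

/-!
The pairing between the annihilator of the diagonal and maps out of the dualizing module.
-/

set_option autoImplicit false

universe u v

open TensorProduct Module

namespace Groth.Agent.OmegaCI

variable {A : Type u} {B : Type v} [CommRing A] [CommRing B] [Algebra A B]

/-- The pairing `(l, b ⊗ c) ↦ l b • c`. -/
noncomputable def pair (l : Disc.Omega A B) : B ⊗[A] B →ₗ[A] B :=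
  TensorProduct.lift ((LinearMap.lsmul A B).comp l.toLinearMap)

theorem pair_tmul (l : Disc.Omega A B) (b c : B) : pair l (b ⊗ₜ c) = l.toLinearMap b • c := rfl

theorem pair_add (l l' : Disc.Omega A B) (ξ : B ⊗[A] B) : pair (l + l') ξ = pair l ξ + pair l' ξ := by
  induction ξ with
  | zero => simp
  | tmul b c => simp [pair_tmul, add_smul]
  | add x y hx hy => simp only [map_add, hx, hy]; abel

theorem pair_left (l : Disc.Omega A B) (b : B) (ξ : B ⊗[A] B) :
    pair (b • l) ξ = pair l ((b ⊗ₜ[A] (1 : B)) * ξ) := by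
  induction ξ with
  | zero => simp
  | tmul x y => rw [Algebra.TensorProduct.tmul_mul_tmul, pair_tmul, pair_tmul, one_mul]; rfl
  | add x y hx hy => rw [mul_add, map_add, map_add, hx, hy]

theorem pair_right (l : Disc.Omega A B) (b : B) (ξ : B ⊗[A] B) :
    pair l (((1 : B) ⊗ₜ[A] b) * ξ) = b * pair l ξ := by
  induction ξ with
  | zero => simp
  | tmul x y => rw [Algebra.TensorProduct.tmul_mul_tmul, pair_tmul, pair_tmul, one_mul, mul_smul_comm]
  | add x y hx hy => rw [mul_add, map_add, map_add, hx, hy, mul_add]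

variable (A B) in
/-- The annihilator of the diagonal ideal. -/
noncomputable abbrev diagAnn : Ideal (B ⊗[A] B) :=
  Submodule.annihilator (RingHom.ker (Algebra.TensorProduct.lmul' (S := B) A))

theorem mem_diagAnn_iff (ξ : B ⊗[A] B) :
    ξ ∈ diagAnn A B ↔ ∀ b : B, (((1 : B) ⊗ₜ[A] b) - b ⊗ₜ[A] (1 : B)) * ξ = 0 := by
  rw [Submodule.mem_annihilator]
  constructor
  · intro h b
    rw [mul_comm]
    exact h _ (KaehlerDifferential.one_smul_sub_smul_one_mem_ideal A b)
  · intro h z hz
    rw [show RingHom.ker (Algebra.TensorProduct.lmul' (S := B) A) = KaehlerDifferential.ideal A B from rfl,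
      ← KaehlerDifferential.span_range_eq_ideal] at hz
    induction hz using Submodule.span_induction with
    | mem z hz =>
      obtain ⟨b, rfl⟩ := hz
      rw [smul_eq_mul, mul_comm]; exact h b
    | zero => exact smul_zero _
    | add x y _ _ hx hy => rw [smul_add, hx, hy, add_zero]
    | smul r x _ hx => rw [smul_comm, hx, smul_zero]

variable [Module.Finite A B] [Module.Free A B]

/-- The coordinate forms. -/
noncomputable def co (i : Module.Free.ChooseBasisIndex A B) : Disc.Omega A B :=
  ⟨(Module.Free.chooseBasis A B).coord i⟩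

theorem sum_co (φ : Disc.Omega A B) :
    ∑ j, algebraMap A B (φ.toLinearMap (Module.Free.chooseBasis A B j)) • co j = φ := by
  let bs := Module.Free.chooseBasis A B
  apply Disc.Omega.ext
  refine LinearMap.ext fun x => ?_
  have hs : ∀ (s : Finset (Module.Free.ChooseBasisIndex A B)) (F : _ → Disc.Omega A B),
      (∑ j ∈ s, F j).toLinearMap x = ∑ j ∈ s, (F j).toLinearMap x := fun s F =>
    map_sum (AddMonoidHom.mk' (fun ψ : Disc.Omega A B => ψ.toLinearMap x) fun _ _ => rfl) F s
  rw [hs]
  conv_rhs => rw [← bs.sum_repr x, map_sum]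
  refine Finset.sum_congr rfl fun j _ => ?_
  show bs.coord j (algebraMap A B (φ.toLinearMap (bs j)) * x) = φ.toLinearMap (bs.repr x j • bs j)
  rw [← Algebra.smul_def, map_smul, map_smul, smul_eq_mul, smul_eq_mul, mul_comm]
  rfl

theorem eq_sum (ξ : B ⊗[A] B) :
    ξ = ∑ i, Module.Free.chooseBasis A B i ⊗ₜ[A] pair (co i) ξ := by
  induction ξ with
  | zero => simp
  | tmul b c =>
    conv_lhs => rw [← (Module.Free.chooseBasis A B).sum_repr b, TensorProduct.sum_tmul]
    exact Finset.sum_congr rfl fun i _ => by rw [TensorProduct.smul_tmul]; rfl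
  | add x y hx hy =>
    simp only [map_add, TensorProduct.tmul_add, Finset.sum_add_distrib]
    rw [← hx, ← hy]

theorem ext_pair {ξ η : B ⊗[A] B} (h : ∀ l : Disc.Omega A B, pair l ξ = pair l η) : ξ = η := by
  rw [eq_sum ξ, eq_sum η]
  simp only [h]

/-- The tensor attached to a map out of the dualizing module. -/
noncomputable def tens (Φ : Disc.Omega A B →ₗ[B] B) : B ⊗[A] B :=
  ∑ i, Module.Free.chooseBasis A B i ⊗ₜ[A] Φ (co i)

theorem pair_tens (Φ : Disc.Omega A B →ₗ[B] B) (l : Disc.Omega A B) : pair l (tens Φ) = Φ l := by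
  conv_rhs => rw [← sum_co l, map_sum]
  simp [tens, pair_tmul, Algebra.smul_def]

theorem tens_mem (Φ : Disc.Omega A B →ₗ[B] B) : tens Φ ∈ diagAnn A B := by
  refine (mem_diagAnn_iff _).2 fun b => ext_pair fun l => ?_
  rw [sub_mul, map_sub, pair_right, ← pair_left, pair_tens, pair_tens, map_smul, smul_eq_mul, sub_self,
    map_zero]

/-- The map attached to an element killing the diagonal. -/
noncomputable def toHom (ξ : B ⊗[A] B) (h : ξ ∈ diagAnn A B) : Disc.Omega A B →ₗ[B] B where
  toFun l := pair l ξ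
  map_add' l l' := pair_add l l' ξ
  map_smul' b l := by
    have h1 := (mem_diagAnn_iff ξ).1 h b
    rw [sub_mul, sub_eq_zero] at h1
    rw [RingHom.id_apply, smul_eq_mul, pair_left, ← h1, pair_right]

theorem trace_eq : Disc.Omega.trace A B = ∑ i, Module.Free.chooseBasis A B i • co (A := A) i := by
  classical
  apply Disc.Omega.ext
  refine LinearMap.ext fun x => ?_
  have hs := map_sum (AddMonoidHom.mk' (fun ψ : Disc.Omega A B => ψ.toLinearMap x) fun _ _ => rfl)
    (fun i => Module.Free.chooseBasis A B i • co (A := A) i) Finset.univ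
  refine Eq.trans ?_ hs.symm
  show Algebra.trace A B x = _
  rw [Algebra.trace_eq_matrix_trace (Module.Free.chooseBasis A B), Matrix.trace]
  refine Finset.sum_congr rfl fun i _ => ?_
  rw [Matrix.diag_apply, Algebra.leftMulMatrix_eq_repr_mul]
  show _ = (Module.Free.chooseBasis A B).coord i (Module.Free.chooseBasis A B i * x)
  rw [mul_comm, Module.Basis.coord_apply]

theorem lmul'_eq_pair (ξ : B ⊗[A] B) (h : ξ ∈ diagAnn A B) :
    Algebra.TensorProduct.lmul' (S := B) A ξ = toHom ξ h (Disc.Omega.trace A B) := by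
  rw [trace_eq, map_sum]
  conv_lhs => rw [eq_sum ξ, map_sum]
  exact Finset.sum_congr rfl fun i _ => by rw [Algebra.TensorProduct.lmul'_apply_tmul, map_smul, smul_eq_mul]; rfl

theorem noetherDifferent_eq_range :
    (Disc.noetherDifferent A B : Set B) =
      Set.range (fun φ : Disc.Omega A B →ₗ[B] B => φ (Disc.Omega.trace A B)) := by
  have hsurj : Function.Surjective (Algebra.TensorProduct.lmul' (S := B) A) := fun b =>
    ⟨b ⊗ₜ 1, by simp⟩
  ext d
  rw [SetLike.mem_coe, Disc.noetherDifferent, Ideal.mem_map_iff_of_surjective _ hsurj]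
  constructor
  · rintro ⟨ξ, hξ, rfl⟩
    exact ⟨toHom ξ hξ, (lmul'_eq_pair ξ hξ).symm⟩
  · rintro ⟨Φ, rfl⟩
    refine ⟨tens Φ, tens_mem Φ, (lmul'_eq_pair _ (tens_mem Φ)).trans ?_⟩
    exact pair_tens Φ _

theorem differentSet_eq_noetherDifferent [Module.Invertible B (Disc.Omega A B)] :
    Disc.differentSet A B = (Disc.noetherDifferent A B : Set B) := by
  classical
  ext d
  have hd : d ∈ Disc.differentSet A B ↔
      ∀ φ : Disc.Omega A B, ∃ c : B, d • φ = c • Disc.Omega.trace A B :=
    ⟨fun h φ => (h φ.toLinearMap).imp fun c hc => Disc.Omega.ext (LinearMap.ext hc),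
      fun h φ => (h ⟨φ⟩).imp fun c hc x => congrArg (fun ψ : Disc.Omega A B => ψ.toLinearMap x) hc⟩
  rw [hd, noetherDifferent_eq_range]
  constructor
  · intro h
    obtain ⟨T, hT⟩ := TensorProduct.exists_finset ((Module.Invertible.linearEquiv B (Disc.Omega A B)).symm 1)
    have hT1 : ∑ i ∈ T, i.1 i.2 = 1 := by
      have h1 := congrArg (Module.Invertible.linearEquiv B (Disc.Omega A B)) hT
      rw [LinearEquiv.apply_symm_apply, map_sum] at h1
      rw [h1]
      exact Finset.sum_congr rfl fun x _ => rfl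
    choose c hc using h
    refine ⟨∑ i ∈ T, c i.2 • i.1, ?_⟩
    simp only [LinearMap.sum_apply, LinearMap.smul_apply]
    calc ∑ i ∈ T, c i.2 • i.1 (Disc.Omega.trace A B) = ∑ i ∈ T, d • i.1 i.2 :=
          Finset.sum_congr rfl fun i _ => by rw [← map_smul, ← map_smul, hc]
      _ = d := by rw [← Finset.smul_sum, hT1, smul_eq_mul, mul_one]
  · rintro ⟨Φ, rfl⟩ φ
    refine ⟨Φ φ, ?_⟩
    have h2 : (Disc.Omega.trace A B) ⊗ₜ[B] φ = φ ⊗ₜ[B] Disc.Omega.trace A B := Module.Invertible.tmul_comm
    simpa using congrArg (fun t => TensorProduct.lid B _ (Φ.rTensor _ t)) h2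

end Groth.Agent.OmegaCI
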