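import Groth.Agent.OmegaCI.Descent

/-!
A finite algebra splits off a finite free factor at a flat point after a flat base change.
-/

set_option autoImplicit false
set_option linter.style.haveILetI false

universe u

open TensorProduct IsLocalRing

namespace Groth.Agent.OmegaCI

/-- At a flat point a finite algebra over a henselian local ring has a free direct factor. -/
theorem exists_free_factor {R T : Type u} [CommRing R] [IsLocalRing R] [HenselianRing R (maximalIdeal R)]
    [CommRing T] [Algebra R T] [Module.Finite R T] (n : Ideal T) [n.IsMaximal]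
    (hflat : Module.Flat R (Localization.AtPrime n)) :
    ∃ e ∉ n, ∃ (l : ℕ) (π : Fin l → (T →ₗ[R] R)) (v : Fin l → T), ∀ x : T, e * x = ∑ i, π i x • v i := by
  classical
  haveI : Algebra.IsIntegral R T := Algebra.IsIntegral.of_finite R T
  have hlift : Set.SurjOn (Ideal.Quotient.mk ((maximalIdeal R).map (algebraMap R T)))
      {e : T | IsIdempotentElem e} {e | IsIdempotentElem e} := by
    intro ē hē
    obtain ⟨x, rfl⟩ := Ideal.Quotient.mk_surjective ē
    obtain ⟨e, he, hex⟩ := HenselLib.exists_idem (maximalIdeal R) (B := T) (x := x) (by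
      rw [sq, ← Ideal.Quotient.eq_zero_iff_mem, map_sub, map_mul, sub_eq_zero]; exact hē)
    exact ⟨e, he, Ideal.Quotient.eq.2 hex⟩
  obtain ⟨e, he, hen, heN⟩ := HenselLib.exists_separating_idem hlift n
  let K : Ideal T := Ideal.span {1 - e}
  have heK : ∀ x ∈ K, e * x = 0 := by
    intro x hx
    obtain ⟨c, rfl⟩ := Ideal.mem_span_singleton'.1 hx
    linear_combination (-c) * he.eq
  let T₁ := T ⧸ K
  haveI : IsLocalization n.primeCompl T₁ := by
    refine ⟨⟨?_, ?_, ?_⟩⟩
    · rintro ⟨s, hs⟩
      by_contra hu
      obtain ⟨N, hN, hmem⟩ := exists_max_ideal_of_mem_nonunits hu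
      have hN' : (N.comap (Ideal.Quotient.mk K)).IsMaximal :=
        Ideal.comap_isMaximal_of_surjective _ Ideal.Quotient.mk_surjective
      have heq : N.comap (Ideal.Quotient.mk K) = n := by
        by_contra hne
        have h := heN _ hN' hne
        have h2 : (1 - e) ∈ N.comap (Ideal.Quotient.mk K) := by
          show Ideal.Quotient.mk K (1 - e) ∈ N
          rw [Ideal.Quotient.eq_zero_iff_mem.2 (Ideal.mem_span_singleton_self _)]
          exact N.zero_mem
        exact hN'.ne_top ((Ideal.eq_top_iff_one _).2 (by simpa using add_mem h h2))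
      exact hs (heq ▸ hmem)
    · intro z
      obtain ⟨z, rfl⟩ := Ideal.Quotient.mk_surjective z
      exact ⟨(z, 1), by simp; rfl⟩
    · intro x y hxy
      refine ⟨⟨e, hen⟩, sub_eq_zero.1 ?_⟩
      show e * x - e * y = 0
      rw [← mul_sub]
      exact heK _ (Ideal.Quotient.eq.1 hxy)
  haveI : Module.Flat R T₁ := Module.Flat.of_linearEquiv
    ((IsLocalization.algEquiv n.primeCompl T₁ (Localization.AtPrime n)).restrictScalars R).toLinearEquiv
  haveI : Module.Finite R T₁ :=
    Module.Finite.of_surjective (Ideal.Quotient.mkₐ R K).toLinearMap Ideal.Quotient.mk_surjective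
  haveI : Module.Free R T₁ := Module.free_of_flat_of_isLocalRing
  let b := Module.Free.chooseBasis R T₁
  let E := Fintype.equivFin (Module.Free.ChooseBasisIndex R T₁)
  choose v hv using fun i => Ideal.Quotient.mk_surjective (b (E.symm i))
  refine ⟨e, hen, _, fun i => (b.coord (E.symm i)) ∘ₗ (Ideal.Quotient.mkₐ R K).toLinearMap, fun i => e * v i, fun x => ?_⟩
  have h1 : Ideal.Quotient.mk K (x - ∑ i, b.coord (E.symm i) (Ideal.Quotient.mk K x) • v i) = 0 := by
    rw [map_sub, map_sum, sub_eq_zero]
    conv_lhs => rw [← b.sum_repr (Ideal.Quotient.mk K x), ← Equiv.sum_comp E.symm]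
    refine Finset.sum_congr rfl fun i _ => ?_
    rw [← Ideal.Quotient.mkₐ_eq_mk R, map_smul, Ideal.Quotient.mkₐ_eq_mk, hv]
    rfl
  have h2 := heK _ (Ideal.Quotient.eq_zero_iff_mem.1 h1)
  rw [mul_sub, sub_eq_zero, Finset.mul_sum] at h2
  rw [h2]
  exact Finset.sum_congr rfl fun i _ => mul_smul_comm _ _ _

/-- The flat base change that splits off a free factor at `q'`. -/
theorem exists_split {A B' : Type u} [CommRing A] [IsNoetherianRing A] [CommRing B'] [Algebra A B']
    [Module.Finite A B'] (q' : Ideal B') [q'.IsPrime] (hflat : Module.Flat A (Localization.AtPrime q')) :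
    ∃ (R : Type u) (_ : CommRing R) (_ : Algebra A R), Module.Flat A R ∧
      ∃ n : Ideal (R ⊗[A] B'), (∀ b : B', b ∈ q' → (1 : R) ⊗ₜ[A] b ∈ n) ∧
        ∃ e ∉ n, ∃ (l : ℕ) (π : Fin l → ((R ⊗[A] B') →ₗ[R] R)) (v : Fin l → R ⊗[A] B'),
          ∀ x, e * x = ∑ i, π i x • v i := by
  classical
  let p := q'.comap (algebraMap A B')
  let Ap := Localization.AtPrime p
  let R := AdicCompletion (maximalIdeal Ap) Ap
  haveI : IsScalarTower A Ap R := IsScalarTower.of_algebraMap_eq fun _ => rfl
  haveI : Module.Flat A R := Module.Flat.trans A Ap R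
  refine ⟨R, inferInstance, inferInstance, inferInstance, ?_⟩
  let T := R ⊗[A] B'
  let ε : R →ₐ[A] p.ResidueField := (AdicCompletion.evalOneₐ (maximalIdeal Ap)).restrictScalars A
  have hε : Function.Surjective ε := AdicCompletion.evalOneₐ_surjective (maximalIdeal Ap)
  let θ : T →ₐ[A] p.Fiber B' := Algebra.TensorProduct.map ε (AlgHom.id A B')
  have hθ : Function.Surjective θ := TensorProduct.map_surjective hε Function.surjective_id
  let r : p.Fiber B' →ₐ[A] q'.ResidueField :=
    Algebra.TensorProduct.productMap (Ideal.ResidueField.mapₐ p q' (Algebra.ofId A B') rfl)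
      (IsScalarTower.toAlgHom A B' q'.ResidueField)
  let Q : Ideal (p.Fiber B') := RingHom.ker r
  haveI : Q.IsPrime := RingHom.ker_isPrime r.toRingHom
  haveI : IsArtinianRing (p.Fiber B') := IsArtinianRing.of_finite p.ResidueField (p.Fiber B')
  haveI : Q.IsMaximal := IsArtinianRing.isMaximal_of_isPrime Q
  let n : Ideal T := Q.comap θ.toRingHom
  haveI : n.IsMaximal := Ideal.comap_isMaximal_of_surjective θ.toRingHom hθ
  have hnq : ∀ b : B', ((1 : R) ⊗ₜ[A] b : T) ∈ n ↔ b ∈ q' := fun b => by
    show θ ((1 : R) ⊗ₜ[A] b) ∈ Q ↔ _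
    rw [show θ ((1 : R) ⊗ₜ[A] b) = (1 : p.ResidueField) ⊗ₜ[A] b from
      (Algebra.TensorProduct.map_tmul ε (AlgHom.id A B') 1 b).trans (by rw [map_one]; rfl)]
    show r ((1 : p.ResidueField) ⊗ₜ[A] b) = 0 ↔ _
    simp [r, Ideal.algebraMap_residueField_eq_zero]
  haveI : Module.Flat R (Localization.AtPrime n) := by
    let Cr := R ⊗[A] Localization.AtPrime q'
    letI : Algebra T Cr :=
      (Algebra.TensorProduct.map (AlgHom.id R R) (IsScalarTower.toAlgHom A B' (Localization.AtPrime q'))).toAlgebra
    haveI : IsScalarTower R T Cr := IsScalarTower.of_algebraMap_eq (R := R) (S := T) (A := Cr) fun x =>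
      ((Algebra.TensorProduct.map (AlgHom.id R R) (IsScalarTower.toAlgHom A B' (Localization.AtPrime q'))).commutes x).symm
    haveI := IsLocalization.tensorProduct_tensorProduct_right A R q'.primeCompl (Localization.AtPrime q')
      (by ext; simp [RingHom.algebraMap_toAlgebra])
    let Mo : Submonoid T := q'.primeCompl.map (Algebra.TensorProduct.includeRight (R := A) (A := R))
    have hMo : Mo ≤ n.primeCompl := by
      rintro _ ⟨s, hs, rfl⟩
      exact fun h => hs ((hnq s).1 h)
    let g : Cr →+* Localization.AtPrime n := IsLocalization.lift (M := Mo)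
      (g := algebraMap T (Localization.AtPrime n)) fun s => IsLocalization.map_units (Localization.AtPrime n)
        (⟨s.1, hMo s.2⟩ : n.primeCompl)
    letI : Algebra Cr (Localization.AtPrime n) := g.toAlgebra
    haveI : IsScalarTower T Cr (Localization.AtPrime n) := IsScalarTower.of_algebraMap_eq fun x => by
      show _ = g (algebraMap T Cr x)
      rw [IsLocalization.lift_eq]
    haveI := IsLocalization.isLocalization_of_submonoid_le Cr (Localization.AtPrime n) Mo n.primeCompl hMo
    haveI : Module.Flat Cr (Localization.AtPrime n) :=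
      IsLocalization.flat (Localization.AtPrime n) (n.primeCompl.map (algebraMap T Cr))
    haveI : IsScalarTower R Cr (Localization.AtPrime n) :=
      IsScalarTower.of_algebraMap_eq (R := R) (S := Cr) (A := Localization.AtPrime n) fun x =>
        (IsScalarTower.algebraMap_apply R T (Localization.AtPrime n) x).trans
          ((IsScalarTower.algebraMap_apply T Cr (Localization.AtPrime n) _).trans
            (congrArg _ (IsScalarTower.algebraMap_apply R T Cr x).symm))
    haveI : Module.Flat R Cr := inferInstance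
    exact Module.Flat.trans R Cr (Localization.AtPrime n)
  obtain ⟨e, he, l, π, v, hv⟩ := exists_free_factor (R := R) n ‹_›
  exact ⟨n, fun b hb => (hnq b).2 hb, e, he, l, π, v, hv⟩

end Groth.Agent.OmegaCI
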