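import Groth.Agent.S2235
import Groth.Agent.S9147
import Groth.Agent.S9254
import Groth.Agent.FittIdeal.Basic
import Groth.Prelude.Def_Disc
import Mathlib.RingTheory.QuasiFinite.Basic
import Mathlib.RingTheory.Kaehler.Basic
import Mathlib.Algebra.MvPolynomial.Derivation
import Mathlib.Algebra.MvPolynomial.PDeriv

/-!
Noether and Kähler differents of square presentations.
-/

set_option autoImplicit false

universe u

open TensorProduct MvPolynomial

namespace Groth.Agent.OmegaCI

variable {A : Type u} [CommRing A] {n : ℕ}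

/-- A first order Taylor expansion with coefficient control. -/
theorem exists_taylor {R B : Type u} [CommRing R] [CommRing B] [Algebra A R] [Algebra A B] (ψ : R →ₐ[A] B)
    (Y Z : Fin n → R) (x : Fin n → B) (hY : ∀ j, ψ (Y j) = x j) (hZ : ∀ j, ψ (Z j) = x j)
    (f : MvPolynomial (Fin n) A) :
    ∃ c : Fin n → R, aeval Y f - aeval Z f = ∑ j, c j * (Y j - Z j) ∧
      ∀ j, ψ (c j) = aeval x (pderiv j f) := by
  classical
  induction f using MvPolynomial.induction_on with
  | C a => exact ⟨0, by simp, fun j => by simp⟩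
  | add p q hp hq =>
    obtain ⟨c, hc, hc'⟩ := hp
    obtain ⟨d, hd, hd'⟩ := hq
    refine ⟨c + d, ?_, fun j => by simp [hc', hd']⟩
    simp only [Pi.add_apply, add_mul, Finset.sum_add_distrib, map_add, ← hc, ← hd]
    abel
  | mul_X p k hp =>
    obtain ⟨c, hc, hc'⟩ := hp
    refine ⟨fun j => c j * Y k + if j = k then aeval Z p else 0, ?_, fun j => ?_⟩
    · simp only [add_mul, Finset.sum_add_distrib, ite_mul, zero_mul, Finset.sum_ite_eq', Finset.mem_univ,
        if_true, mul_right_comm _ (Y k), ← Finset.sum_mul, ← hc, map_mul, aeval_X]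
      ring
    · have hψZ : ψ (aeval Z p) = aeval x p := by
        rw [← AlgHom.comp_apply, comp_aeval]; simp [hZ]
      rw [pderiv_mul, pderiv_X, map_add, map_mul, map_add, map_mul, map_mul, hc', hY, aeval_X]
      rcases eq_or_ne j k with rfl | hjk
      · simp [hψZ, add_comm]
      · simp [hjk, Ne.symm hjk]

theorem isRelGCI_X (B : Type u) [CommRing B] :
    Synt.IsRelGCI B n n (fun j => (X j : MvPolynomial (Fin n) B)) := by
  intro p _
  refine ⟨le_rfl, ?_⟩
  let φ : Synt.RelGCIRing B n n (fun j => (X j : MvPolynomial (Fin n) B)) →ₐ[B] B :=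
    Ideal.Quotient.liftₐ _ (aeval fun _ => 0) fun a ha => by
      refine ((Ideal.span_le (I := RingHom.ker (aeval fun _ : Fin n => (0 : B)).toRingHom)).2 ?_) ha
      rintro _ ⟨j, rfl⟩
      simp
  have hφ : Function.Bijective φ := by
    have hinv : ∀ z, algebraMap B (Synt.RelGCIRing B n n (fun j => (X j : MvPolynomial (Fin n) B))) (φ z) = z := by
      intro z
      obtain ⟨z, rfl⟩ := Ideal.Quotient.mk_surjective z
      show ((Algebra.ofId B _).comp φ).comp (Ideal.Quotient.mkₐ B _) z = Ideal.Quotient.mkₐ B _ z
      congr 1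
      refine MvPolynomial.algHom_ext fun j => ?_
      have h1 : φ (Ideal.Quotient.mkₐ B _ (X j)) = 0 := by
        show aeval (fun _ => (0 : B)) (X j) = 0
        simp
      rw [AlgHom.comp_apply, AlgHom.comp_apply, h1, map_zero]
      exact (Ideal.Quotient.eq_zero_iff_mem.2 (Ideal.subset_span (Set.mem_range_self (f := fun j => (X j : MvPolynomial (Fin n) B)) j))).symm
    exact ⟨Function.LeftInverse.injective hinv, fun b => Exists.intro _ (φ.commutes b)⟩
  rw [ringKrullDim_eq_of_ringEquiv
    ((Algebra.TensorProduct.congr (AlgEquiv.refl : p.asIdeal.ResidueField ≃ₐ[p.asIdeal.ResidueField] _)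
      (AlgEquiv.ofBijective φ hφ)).trans (Algebra.TensorProduct.rid B p.asIdeal.ResidueField p.asIdeal.ResidueField)).toRingEquiv,
    ringKrullDim_eq_zero_of_field, Nat.sub_self]
  rfl

theorem ex_map_of_bijective {S T : Type u} [CommRing S] [CommRing T] (e : S →+* T) (he : Function.Bijective e)
    {l : List S} (h : KoszulLib.Ex l) : KoszulLib.Ex (l.map e) := by
  letI : Algebra S T := e.toAlgebra
  haveI : Module.Flat S T := Module.Flat.of_linearEquiv (LinearEquiv.ofBijective (Algebra.linearMap S T) he).symm
  exact h.baseChange (S := T)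

variable (f : Fin n → MvPolynomial (Fin n) A)

theorem isRelGCI_of_quasiFinite [Algebra.QuasiFinite A (Synt.RelGCIRing A n n f)] :
    Synt.IsRelGCI A n n f := by
  intro p hp
  refine ⟨le_rfl, ?_⟩
  haveI : Module.Finite p.asIdeal.ResidueField (p.asIdeal.Fiber (Synt.RelGCIRing A n n f)) :=
    Algebra.QuasiFinite.finite_fiber p.asIdeal
  haveI : IsArtinianRing (p.asIdeal.Fiber (Synt.RelGCIRing A n n f)) :=
    IsArtinianRing.of_finite p.asIdeal.ResidueField (p.asIdeal.Fiber (Synt.RelGCIRing A n n f))
  rw [Nat.sub_self]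
  haveI : Ring.KrullDimLE 0 (p.asIdeal.Fiber (Synt.RelGCIRing A n n f)) :=
    (isArtinianRing_iff_krullDimLE_zero (R := p.asIdeal.Fiber (Synt.RelGCIRing A n n f))).1 inferInstance
  exact ringKrullDimZero_iff_ringKrullDim_eq_zero.1 inferInstance

local notation "B" => MvPolynomial (Fin n) A ⧸ Ideal.span (Set.range f)

theorem exists_diag_generator (h : Synt.IsRelGCI A n n f) :
    ∃ ξ : B ⊗[A] B, Submodule.annihilator (RingHom.ker (Algebra.TensorProduct.lmul' (S := B) A)) = Ideal.span {ξ} ∧
      Algebra.TensorProduct.lmul' (S := B) A ξ = Ideal.Quotient.mk (Ideal.span (Set.range f))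
        (Matrix.det (Matrix.of fun i j => pderiv j (f i))) := by
  classical
  let P := MvPolynomial (Fin n) A
  let I : Ideal P := Ideal.span (Set.range f)
  haveI : Module.Flat A B := (S9147.result A n n f h).1
  let mk : P →ₐ[A] B := Ideal.Quotient.mkₐ A I
  let x : Fin n → B := fun j => mk (X j)
  let Y : Fin n → P ⊗[A] B := fun j => X j ⊗ₜ 1
  let Z : Fin n → P ⊗[A] B := fun j => (1 : P) ⊗ₜ x j
  let g : Fin n → P ⊗[A] B := fun j => Y j - Z j
  let ψ : P ⊗[A] B →ₐ[A] B := Algebra.TensorProduct.productMap mk (AlgHom.id A B)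
  have hY : ∀ j, ψ (Y j) = x j := fun j => by simp [ψ, Y, x]
  have hZ : ∀ j, ψ (Z j) = x j := fun j => by simp [ψ, Z, x]
  have haY : aeval Y = (Algebra.TensorProduct.includeLeft : P →ₐ[A] P ⊗[A] B) :=
    MvPolynomial.algHom_ext fun j => by simp [Y]
  have hax : aeval x = mk := MvPolynomial.algHom_ext fun j => by simp [x]
  have haZ : aeval Z = (Algebra.TensorProduct.includeRight : B →ₐ[A] P ⊗[A] B).comp mk :=
    MvPolynomial.algHom_ext fun j => by simp [Z, x]
  choose c hc hc' using fun i => exists_taylor ψ Y Z x hY hZ (f i)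
  -- the change of variables
  let e₁ : MvPolynomial (Fin n) B →+* P ⊗[A] B :=
    eval₂Hom (Algebra.TensorProduct.includeRight : B →ₐ[A] P ⊗[A] B).toRingHom g
  let e₂ : P ⊗[A] B →ₐ[A] MvPolynomial (Fin n) B :=
    Algebra.TensorProduct.productMap (aeval fun j => X j + C (x j)) (IsScalarTower.toAlgHom A B _)
  have he₂ : ∀ p : P, aeval (fun j => (X j : MvPolynomial (Fin n) B) + C (x j)) p = e₂ (p ⊗ₜ 1) := fun p => by
    simp [e₂]
  have h21 : ∀ q, e₂ (e₁ q) = q := by
    intro q
    induction q using MvPolynomial.induction_on with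
    | C b => simp [e₁, e₂]
    | add p q hp hq => rw [map_add, map_add, hp, hq]
    | mul_X p j hp =>
      rw [map_mul, map_mul, hp]
      congr 1
      show e₂ (eval₂Hom _ g (X j)) = X j
      rw [eval₂Hom_X']
      show e₂ (X j ⊗ₜ 1 - 1 ⊗ₜ x j) = X j
      rw [map_sub, ← he₂, aeval_X]
      simp [e₂]
      exact add_sub_cancel_right (X j : MvPolynomial (Fin n) B) (C (x j))
  have hsurj : Function.Surjective e₁ := by
    intro z
    induction z using TensorProduct.induction_on with
    | zero => exact ⟨0, map_zero _⟩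
    | add a b ha hb =>
      obtain ⟨p, rfl⟩ := ha
      obtain ⟨q, rfl⟩ := hb
      exact ⟨p + q, map_add _ _ _⟩
    | tmul p b =>
      have hp : ∃ q, e₁ q = p ⊗ₜ[A] (1 : B) := by
        induction p using MvPolynomial.induction_on with
        | C a =>
          refine ⟨C (algebraMap A B a), ?_⟩
          show eval₂Hom _ g (C _) = _
          rw [eval₂Hom_C]
          show (1 : P) ⊗ₜ[A] algebraMap A B a = algebraMap A P a ⊗ₜ[A] 1
          rw [Algebra.algebraMap_eq_smul_one, Algebra.algebraMap_eq_smul_one, ← TensorProduct.smul_tmul]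
        | add p q hp hq =>
          obtain ⟨a, ha⟩ := hp
          obtain ⟨b, hb⟩ := hq
          exact ⟨a + b, by rw [map_add, ha, hb, TensorProduct.add_tmul]⟩
        | mul_X p j hp =>
          obtain ⟨a, ha⟩ := hp
          refine ⟨a * (X j + C (x j)), ?_⟩
          rw [← one_mul (1 : B), ← Algebra.TensorProduct.tmul_mul_tmul, map_mul, ha]
          congr 1
          simp [e₁, g, Y, Z]
      obtain ⟨q, hq⟩ := hp
      refine ⟨q * C b, ?_⟩
      rw [map_mul, hq]
      show _ * eval₂Hom _ g (C b) = _
      rw [eval₂Hom_C]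
      simp
  have hbij : Function.Bijective e₁ := ⟨Function.LeftInverse.injective h21, hsurj⟩
  have hg : LCI.IsKoszulRegularSeq (P ⊗[A] B) (List.ofFn g) := by
    have h1 := ex_map_of_bijective (T := P ⊗[A] B) e₁ hbij ((KoszulLib.ex_iff _).2 (S9254.result B n n _ (isRelGCI_X (n := n) B)))
    rw [List.map_ofFn] at h1
    refine (KoszulLib.ex_iff _).1 ?_
    convert h1 using 3
    funext j
    show g j = e₁ (X j)
    simp [e₁]
  have hker : Ideal.span (Set.range g) = RingHom.ker ψ := by
    refine le_antisymm (Ideal.span_le.2 ?_) fun z hz => ?_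
    · rintro _ ⟨j, rfl⟩
      show ψ (Y j - Z j) = 0
      rw [map_sub, hY, hZ, sub_self]
    obtain ⟨q, rfl⟩ := hsurj z
    have hall : ∀ q, e₁ q - (1 : P) ⊗ₜ[A] ψ (e₁ q) ∈ Ideal.span (Set.range g) := by
      intro q
      induction q using MvPolynomial.induction_on with
      | C b =>
        have : e₁ (C b) = (1 : P) ⊗ₜ[A] b := eval₂Hom_C _ _ _
        rw [this]; simp [ψ]
      | add p q hp hq =>
        rw [map_add, map_add, TensorProduct.tmul_add, add_sub_add_comm]
        exact add_mem hp hq
      | mul_X p j hp =>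
        have hXj : e₁ (X j) = g j := eval₂Hom_X' _ _ _
        have : ψ (g j) = 0 := by rw [map_sub, hY, hZ, sub_self]
        rw [map_mul, map_mul, hXj, this, mul_zero, TensorProduct.tmul_zero, sub_zero]
        exact Ideal.mul_mem_left _ _ (Ideal.subset_span ⟨j, rfl⟩)
    have h0 := hall q
    rw [show ψ (e₁ q) = 0 from hz, TensorProduct.tmul_zero, sub_zero] at h0
    exact h0
  have hexp : ∀ i, f i ⊗ₜ[A] (1 : B) = ∑ j, c i j * g j := fun i => by
    rw [← hc i, haY, haZ, AlgHom.comp_apply, show mk (f i) = 0 from
      Ideal.Quotient.eq_zero_iff_mem.2 (Ideal.subset_span ⟨i, rfl⟩), map_zero, sub_zero]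
    rfl
  have hann := S2235.result f (S9254.result A n n f h) g hg hker (Matrix.of c) hexp
  refine ⟨_, hann, ?_⟩
  have hcomp : ∀ z : P ⊗[A] B, Algebra.TensorProduct.lmul' (S := B) A
      (Algebra.TensorProduct.map mk (AlgHom.id A B) z) = ψ z := by
    intro z
    induction z using TensorProduct.induction_on with
    | zero => simp only [map_zero]
    | tmul y b => simp [ψ]
    | add a b ha hb => simp only [map_add, ha, hb]
  refine (hcomp _).trans ?_
  refine (RingHom.map_det (R := P ⊗[A] B) ψ.toRingHom (Matrix.of c)).trans ?_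
  rw [show Ideal.Quotient.mk (Ideal.span (Set.range f)) = mk.toRingHom from rfl]
  refine Eq.trans ?_ (RingHom.map_det (R := P) mk.toRingHom (Matrix.of fun i j => pderiv j (f i))).symm
  congr 1
  ext i j
  simp only [RingHom.mapMatrix_apply, Matrix.map_apply, Matrix.of_apply]
  exact (hc' i j).trans (by rw [hax]; rfl)

theorem noetherDifferent_of_isRelGCI (h : Synt.IsRelGCI A n n f) :
    Disc.noetherDifferent A B = Ideal.span {Ideal.Quotient.mk (Ideal.span (Set.range f))
      (Matrix.det (Matrix.of fun i j => pderiv j (f i)))} := by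
  obtain ⟨ξ, hann, hξ⟩ := exists_diag_generator f h
  rw [Disc.noetherDifferent, hann, Ideal.map_span, Set.image_singleton, hξ]

theorem fitting_eq_of_presentation {R : Type u} [CommRing R] [Algebra A R]
    (mk : MvPolynomial (Fin n) A →ₐ[A] R) (hmk : Function.Surjective mk)
    (hker : RingHom.ker mk.toRingHom = Ideal.span (Set.range f)) :
    Fitt.ideal R (KaehlerDifferential A R) 0 =
      Ideal.span {mk (Matrix.det (Matrix.of fun i j => pderiv j (f i)))} := by
  classical
  let d : Derivation A R (KaehlerDifferential A R) := KaehlerDifferential.D A R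
  let w : Fin n → KaehlerDifferential A R := fun j => d (mk (X j))
  let row : MvPolynomial (Fin n) A → (Fin n → R) := fun p j => mk (pderiv j p)
  have hf0 : ∀ i, mk (f i) = 0 := fun i => by
    have : f i ∈ RingHom.ker mk.toRingHom := hker ▸ Ideal.subset_span ⟨i, rfl⟩
    exact this
  have hrow : ∀ p q, row (p * q) = mk p • row q + mk q • row p := fun p q => by
    funext j
    simp [row, Derivation.leibniz]
  have hrowX : ∀ k, row (X k) = Pi.single k 1 := fun k => by
    funext j
    rcases eq_or_ne j k with rfl | hjk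
    · simp [row]
    · simp [row, pderiv_X, hjk, Ne.symm hjk]
  have hrow0 : row 0 = 0 := funext fun j => by simp [row]
  have hd : ∀ p, d (mk p) = Fintype.linearCombination R w (row p) := by
    intro p
    induction p using MvPolynomial.induction_on with
    | C a =>
      have h0 : row (C a) = 0 := funext fun j => by simp [row]
      rw [h0, map_zero, ← MvPolynomial.algebraMap_eq, AlgHom.commutes, Derivation.map_algebraMap]
    | add p q hp hq =>
      have h0 : row (p + q) = row p + row q := funext fun j => by simp [row]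
      rw [h0, map_add, map_add, map_add, hp, hq]
    | mul_X p k hp =>
      rw [map_mul, Derivation.leibniz, hp, hrow, map_add, map_smul, map_smul, hrowX,
        Fintype.linearCombination_apply_single, one_smul, add_comm]
  have hgen : Submodule.span R (Set.range w) = ⊤ := by
    rw [eq_top_iff, ← KaehlerDifferential.span_range_derivation, Submodule.span_le]
    rintro _ ⟨b, rfl⟩
    obtain ⟨p, rfl⟩ := hmk b
    rw [show (KaehlerDifferential.D A R) (mk p) = d (mk p) from rfl, hd p, Fintype.linearCombination_apply]
    exact Submodule.sum_mem _ fun j _ => Submodule.smul_mem _ _ (Submodule.subset_span ⟨j, rfl⟩)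
  let G : Set (Fin n → R) := Set.range fun i => row (f i)
  have hG : Submodule.span R G = LinearMap.ker (Fintype.linearCombination R w) := by
    refine le_antisymm (Submodule.span_le.2 ?_) fun v hv => ?_
    · rintro _ ⟨i, rfl⟩
      rw [SetLike.mem_coe, LinearMap.mem_ker, ← hd, hf0, map_zero]
    let N := Submodule.span R G
    have hI : ∀ p ∈ Ideal.span (Set.range f), N.mkQ (row p) = 0 := by
      intro p hp
      induction hp using Submodule.span_induction with
      | mem p hp =>
        obtain ⟨i, rfl⟩ := hp
        exact (Submodule.Quotient.mk_eq_zero N).2 (Submodule.subset_span ⟨i, rfl⟩)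
      | zero => rw [hrow0, map_zero]
      | add p q _ _ hp hq =>
        rw [show row (p + q) = row p + row q from funext fun j => by simp [row], map_add, hp, hq, add_zero]
      | smul r p hp' hp =>
        have h0 : mk p = 0 := hker.ge hp'
        rw [smul_eq_mul, hrow, map_add, map_smul, map_smul, hp, h0, smul_zero, zero_smul, add_zero]
    let s := Function.surjInv hmk
    have hs : ∀ b, mk (s b) = b := Function.surjInv_eq hmk
    have hwd : ∀ p q, mk p = mk q → N.mkQ (row p) = N.mkQ (row q) := fun p q h => by
      have h1 := hI (p - q) (hker ▸ (show mk (p - q) = 0 by rw [map_sub, h, sub_self]))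
      rw [show row (p - q) = row p - row q from funext fun j => by simp [row], map_sub, sub_eq_zero] at h1
      exact h1
    let D₁ : R →ₗ[A] (Fin n → R) ⧸ N :=
      { toFun := fun b => N.mkQ (row (s b))
        map_add' := fun a b => by
          rw [← map_add, hwd (s (a + b)) (s a + s b) (by rw [map_add, hs, hs, hs]),
            show row (s a + s b) = row (s a) + row (s b) from funext fun j => by simp [row]]
        map_smul' := fun c a => by
          rw [RingHom.id_apply, ← LinearMap.map_smul_of_tower, hwd (s (c • a)) (c • s a) (by rw [map_smul, hs, hs]),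
            show row (c • s a) = c • row (s a) from funext fun j => by simp [row]] }
    have hD₁ : ∀ p, D₁ (mk p) = N.mkQ (row p) := fun p => hwd _ _ (hs _)
    let D : Derivation A R ((Fin n → R) ⧸ N) :=
      { D₁ with
        map_one_eq_zero' := by
          show D₁ 1 = 0
          rw [← map_one mk, hD₁, show row 1 = 0 from funext fun j => by simp [row], map_zero]
        leibniz' := fun a b => by
          obtain ⟨p, rfl⟩ := hmk a
          obtain ⟨q, rfl⟩ := hmk b
          show D₁ (mk p * mk q) = mk p • D₁ (mk q) + mk q • D₁ (mk p)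
          rw [← map_mul, hD₁, hD₁, hD₁, hrow, map_add, map_smul, map_smul] }
    have h1 : N.mkQ v = D.liftKaehlerDifferential (Fintype.linearCombination R w v) := by
      rw [Fintype.linearCombination_apply, map_sum]
      simp only [map_smul, w, d, Derivation.liftKaehlerDifferential_comp_D]
      conv_lhs => rw [pi_eq_sum_univ' v, map_sum]
      refine Finset.sum_congr rfl fun j _ => ?_
      rw [map_smul]
      congr 1
      rw [← hrowX, ← hD₁]
      rfl
    rw [LinearMap.mem_ker.1 hv, map_zero] at h1
    exact (Submodule.Quotient.mk_eq_zero N).1 h1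
  rw [FittIdeal.ideal_eq w hgen, FittIdeal.dIdeal_eq_span w 0 G hG]
  have hJ : mk (Matrix.det (Matrix.of fun i j => pderiv j (f i))) = (Matrix.of fun i j => row (f i) j).det :=
    RingHom.map_det mk.toRingHom _
  rw [hJ]
  refine le_antisymm (Ideal.span_le.2 ?_) (Ideal.span_mono ?_)
  · rintro _ ⟨b, hb, rfl⟩
    have hb' : ∀ i, ∃ k, row (f k) = b i := fun i => by
      have := hb i
      rwa [if_pos (by simp)] at this
    choose σ hσ using hb'
    by_cases hi : Function.Injective σ
    · let e : Equiv.Perm (Fin n) := Equiv.ofBijective σ (Finite.injective_iff_bijective.1 hi)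
      have : b = (Matrix.of fun i j => row (f i) j).submatrix e id := by
        ext i j; exact (congrFun (hσ i) j).symm
      rw [this, Matrix.det_permute]
      exact Ideal.mul_mem_left _ _ (Ideal.mem_span_singleton_self _)
    · obtain ⟨i, k, hik, hne⟩ := Function.not_injective_iff.1 hi
      rw [Matrix.det_zero_of_row_eq hne ((hσ i).symm.trans ((congrArg (fun l => row (f l)) hik).trans (hσ k)))]
      exact Submodule.zero_mem _
  · rintro _ rfl
    exact ⟨_, fun i => by rw [if_pos (by simp)]; exact ⟨i, rfl⟩, rfl⟩

theorem fitting_eq :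
    Fitt.ideal B (KaehlerDifferential A B) 0 = Ideal.span {Ideal.Quotient.mk (Ideal.span (Set.range f))
      (Matrix.det (Matrix.of fun i j => pderiv j (f i)))} :=
  fitting_eq_of_presentation f (Ideal.Quotient.mkₐ A _) Ideal.Quotient.mk_surjective (Ideal.Quotient.mkₐ_ker A _)

end Groth.Agent.OmegaCI
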