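import Groth.Agent.OmegaCI.Pairing
import Mathlib.RingTheory.Unramified.Locus
import Mathlib.LinearAlgebra.Matrix.Charpoly.LinearMap
import Mathlib.RingTheory.Kaehler.Basic

/-!
The Noether different cuts out the ramified locus.
-/

set_option autoImplicit false

universe u v

open TensorProduct

namespace Groth.Agent.OmegaCI

variable {A : Type u} {B : Type v} [CommRing A] [CommRing B] [Algebra A B]

theorem noetherDifferent_le_iff [Algebra.FiniteType A B] (q : Ideal B) [q.IsPrime] :
    Disc.noetherDifferent A B ≤ q ↔ ¬ Algebra.IsUnramifiedAt A q := by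
  classical
  let I := KaehlerDifferential.ideal A B
  let μ := Algebra.TensorProduct.lmul' (S := B) A
  have hI : I.FG := KaehlerDifferential.ideal_fg A B
  haveI : Module.Finite B (KaehlerDifferential A B) := inferInstance
  have hsurj : Function.Surjective μ := fun b => ⟨b ⊗ₜ 1, by simp [μ]⟩
  have hsmul : ∀ (z : B ⊗[A] B) (w : KaehlerDifferential A B), z • w = μ z • w := by
    intro z w
    obtain ⟨x, rfl⟩ := KaehlerDifferential.fromIdeal_surjective A B w
    have hmem : z - algebraMap B (B ⊗[A] B) (μ z) ∈ I := by
      show μ _ = 0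
      simp [μ]
    have h1 : (z - algebraMap B (B ⊗[A] B) (μ z)) • KaehlerDifferential.fromIdeal A B x = 0 := by
      rw [← map_smul]
      exact (Submodule.Quotient.mk_eq_zero _).2 (Submodule.smul_mem_smul hmem trivial)
    rw [sub_smul, sub_eq_zero, algebraMap_smul] at h1
    exact h1
  have hloc : Algebra.IsUnramifiedAt A q ↔ ¬ Module.annihilator B (KaehlerDifferential A B) ≤ q := by
    change (⟨q, inferInstance⟩ : PrimeSpectrum B) ∈ Algebra.unramifiedLocus A B ↔ _
    rw [Algebra.unramifiedLocus_eq_compl_support, Module.support_eq_zeroLocus]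
    exact Iff.rfl
  rw [hloc, not_not]
  constructor
  · intro hD
    by_contra hcon
    obtain ⟨b, hb, hbq⟩ := SetLike.not_le_iff_exists.1 hcon
    rw [Module.mem_annihilator] at hb
    let z₀ := algebraMap B (B ⊗[A] B) b
    haveI : Module.Finite (B ⊗[A] B) I := Module.Finite.iff_fg.2 hI
    obtain ⟨p, hp, -, hcoeff, hzero⟩ :=
      LinearMap.exists_monic_and_natDegree_eq_and_coeff_mem_pow_and_aeval_eq_zero (B ⊗[A] B)
        (algebraMap (B ⊗[A] B) (Module.End (B ⊗[A] B) I) z₀) I (by
          rintro _ ⟨x, rfl⟩
          rw [Module.algebraMap_end_apply, ← Submodule.Quotient.mk_eq_zero]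
          show KaehlerDifferential.fromIdeal A B (z₀ • x) = 0
          rw [map_smul, hsmul, show μ z₀ = b from by simp [z₀, μ]]
          exact hb _)
    have hkill : Polynomial.eval z₀ p ∈ Submodule.annihilator I := by
      rw [Submodule.mem_annihilator]
      intro x hx
      have := LinearMap.congr_fun hzero ⟨x, hx⟩
      rw [Polynomial.aeval_algebraMap_apply, Module.algebraMap_end_apply, Polynomial.coe_aeval_eq_eval] at this
      exact congrArg Subtype.val this
    have h1 : μ (Polynomial.eval z₀ p) = b ^ p.natDegree := by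
      have h2 : μ (Polynomial.eval z₀ p) = Polynomial.eval₂ μ.toRingHom (μ z₀) p :=
        (Polynomial.eval₂_at_apply μ.toRingHom z₀).symm
      rw [h2, Polynomial.eval₂_eq_sum_range, Finset.sum_range_succ, Finset.sum_eq_zero, zero_add,
        Polynomial.coeff_natDegree, hp.leadingCoeff, map_one, one_mul, show μ z₀ = b from by simp [z₀, μ]]
      intro k hk
      rw [Finset.mem_range] at hk
      have h3 : p.coeff k ∈ I := Ideal.pow_le_self (by omega) (hcoeff k)
      have h4 : μ.toRingHom (p.coeff k) = 0 := h3
      rw [h4, zero_mul]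
    exact hbq (Ideal.IsPrime.mem_of_pow_mem ‹_› _ (hD (h1 ▸ Ideal.mem_map_of_mem _ hkill)))
  · intro hA
    rw [Disc.noetherDifferent, Ideal.map_le_iff_le_comap]
    intro z hz
    refine hA (Module.mem_annihilator.2 fun w => ?_)
    show μ z • w = 0
    rw [← hsmul]
    obtain ⟨x, rfl⟩ := KaehlerDifferential.fromIdeal_surjective A B w
    rw [← map_smul, show z • x = 0 from Subtype.ext (Submodule.mem_annihilator.1 hz x.1 x.2), map_zero]

end Groth.Agent.OmegaCI
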